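import Groth.Agent.Lib.Cont50.OfPreorder

/-!
# Coefficients pulled back from one stage
-/

universe u

open CategoryTheory CategoryTheory.Limits AlgebraicGeometry Opposite

set_option backward.isDefEq.respectTransparency false
set_option linter.style.haveILetI false
set_option linter.unusedSectionVars false

noncomputable section

namespace Groth.Agent.Lib.Cont50.Single

open Sys

variable {I : Type u} [SmallCategory I] [Quiver.IsThin I] {D : I ⥤ Scheme.{u}} (c : Cone D) (i₀ : I)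
  (F₀ : EtCoh.Ab (D.obj i₀))

/-- The comparison isomorphism. -/
def β {X Y Z : Scheme.{u}} {f : X ⟶ Y} {g : Y ⟶ Z} {f₀ : X ⟶ Z} (w : f ≫ g = f₀) :
    EtCoh.pull g ⋙ EtCoh.pull f ≅ EtCoh.pull f₀ :=
  (EtCore.pullComp f g).symm ≪≫ EtCore.pullCongr w

/-- Cocycle identity for the comparison isomorphisms. -/
theorem cocycle' {X Y Z W : Scheme.{u}} {b : W ⟶ X} {a : X ⟶ Y} {t : Y ⟶ Z} {t' : X ⟶ Z}
    {t'' : W ⟶ Z} {r : W ⟶ Y} (q : b ≫ a = r) (wa : a ≫ t = t') (wb : b ≫ t' = t'')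
    (h₁ : r ≫ t = t'') (M : EtCoh.Ab Z) :
    (β h₁).hom.app M = (EtCore.pullCongr q.symm ≪≫ EtCore.pullComp b a).hom.app ((EtCoh.pull t).obj M) ≫
      (EtCoh.pull b).map ((β wa).hom.app M) ≫ (β wb).hom.app M := by
  subst q
  have h : (EtCoh.pull b).map ((β wa).hom.app M) ≫ (β wb).hom.app M =
      (β (rfl : b ≫ a = b ≫ a)).hom.app ((EtCoh.pull t).obj M) ≫ (β h₁).hom.app M :=
    HRes.Basic.cocycle wa wb h₁ M
  rw [h]
  have e : (EtCore.pullCongr (rfl : b ≫ a = b ≫ a) ≪≫ EtCore.pullComp b a) ≪≫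
      β (rfl : b ≫ a = b ≫ a) = Iso.refl _ := by
    unfold β EtCore.pullCongr
    rw [eqToIso_refl, Iso.refl_trans, Iso.trans_refl, Iso.self_symm_id]
  have e' : (EtCore.pullCongr (rfl : b ≫ a = b ≫ a) ≪≫ EtCore.pullComp b a).hom.app
        ((EtCoh.pull t).obj M) ≫ (β (rfl : b ≫ a = b ≫ a)).hom.app ((EtCoh.pull t).obj M) = 𝟙 _ :=
    congrArg (fun i => i.hom.app ((EtCoh.pull t).obj M)) e
  exact ((Category.assoc _ _ _).symm.trans
    ((congrArg (· ≫ (β h₁).hom.app M) e').trans (Category.id_comp _))).symm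

theorem hom_map {a b : Over i₀} (f : a ⟶ b) : D.map f.left ≫ D.map b.hom = D.map a.hom :=
  map_map _ _ _

/-- The system of inverse images of `F₀`. -/
def sys : System (Over.forget i₀ ⋙ D) where
  G o := (EtCoh.pull (D.map o.hom)).obj F₀
  t {k j} f :=
    (EtCoh.pullPushAdj (D.map f.left)).homEquiv _ _ ((β (hom_map i₀ f)).hom.app F₀)
  comp {l k j} ψ f χ w :=
    Colim.of_cocycle (D.map f.left) w ((β (hom_map i₀ f)).hom.app F₀)
      ((β (hom_map i₀ ψ)).hom.app F₀) ((β (hom_map i₀ χ)).hom.app F₀)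
      (cocycle' (b := D.map ψ.left) (a := D.map f.left) (t := D.map j.hom) (r := D.map χ.left) w
        (hom_map i₀ f) (hom_map i₀ ψ) (hom_map i₀ χ) F₀)

/-- The comparison with the inverse image on the limit. -/
def ψ (o : Over i₀) : (EtCoh.pull (c.π.app o.left)).obj ((sys i₀ F₀).G o) ≅
    (EtCoh.pull (c.π.app i₀)).obj F₀ :=
  (β (c.w o.hom)).app F₀

theorem hb {k j : Over i₀} (f : k ⟶ j) :
    (sys i₀ F₀).t f ≫ (EtCoh.push (D.map f.left)).map
        (Colim.b (c := c.whisker (Over.forget i₀)) (sys i₀ F₀)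
          ((Functor.const (Over i₀)ᵒᵖ).obj ((EtCoh.pull (c.π.app i₀)).obj F₀)) (ψ c i₀ F₀) k) ≫
      (P2 (D.map f.left) (c.π.app k.left) (c.w f.left)).hom.app _ =
    Colim.b (c := c.whisker (Over.forget i₀)) (sys i₀ F₀)
        ((Functor.const (Over i₀)ᵒᵖ).obj ((EtCoh.pull (c.π.app i₀)).obj F₀)) (ψ c i₀ F₀) j ≫
      (EtCoh.push (c.π.app j.left)).map (𝟙 _) := by
  rw [CategoryTheory.Functor.map_id]
  refine Eq.trans ?_ (Category.comp_id _).symm
  exact Colim.of_cocycle (D.map f.left) (c.w f.left) ((β (hom_map i₀ f)).hom.app F₀)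
    ((β (c.w k.hom)).hom.app F₀) ((β (c.w j.hom)).hom.app F₀)
    (cocycle' (b := c.π.app k.left) (a := D.map f.left) (t := D.map j.hom) (c.w f.left)
      (hom_map i₀ f) (c.w k.hom) (c.w j.hom) F₀)

variable [IsCofiltered I] [∀ {i j : I} (f : i ⟶ j), IsAffineHom (D.map f)]
  [∀ j, CompactSpace (D.obj j)] [∀ j, QuasiSeparatedSpace (D.obj j)]
  [∀ {k j : I} (φ : k ⟶ j), PreservesFiniteLimits (EtCoh.pull (D.map φ))]
  [∀ j, PreservesFiniteLimits (EtCoh.pull (c.π.app j))]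

theorem main (hc : IsLimit c) (p : ℕ) :
    (∀ ξ : EtCoh.H c.pt ((EtCoh.pull (c.π.app i₀)).obj F₀) p,
      ∃ (j : I) (g : j ⟶ i₀) (y : EtCoh.H (D.obj j) ((EtCoh.pull (D.map g)).obj F₀) p),
        EtCore.HpullVia (c.π.app j) (D.map g) (c.π.app i₀) (c.w g) F₀ p y = ξ) ∧
    (∀ (j : I) (g : j ⟶ i₀) (y : EtCoh.H (D.obj j) ((EtCoh.pull (D.map g)).obj F₀) p),
      EtCore.HpullVia (c.π.app j) (D.map g) (c.π.app i₀) (c.w g) F₀ p y = 0 →
        ∃ (k : I) (φ : k ⟶ j), EtCore.Hpull (D.map φ) _ p y = 0) := by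
  haveI : Quiver.IsThin (Over i₀) := fun a b => ⟨fun f g => Over.OverMorphism.ext (Subsingleton.elim _ _)⟩
  haveI : ∀ o, CompactSpace ((Over.forget i₀ ⋙ D).obj o) :=
    fun o => inferInstanceAs (CompactSpace (D.obj o.left))
  haveI : ∀ o, QuasiSeparatedSpace ((Over.forget i₀ ⋙ D).obj o) :=
    fun o => inferInstanceAs (QuasiSeparatedSpace (D.obj o.left))
  haveI : ∀ {a b : Over i₀} (f : a ⟶ b), IsAffineHom ((Over.forget i₀ ⋙ D).map f) :=
    fun f => inferInstanceAs (IsAffineHom (D.map f.left))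
  haveI : ∀ {a b : Over i₀} (f : a ⟶ b), PreservesFiniteLimits (EtCoh.pull ((Over.forget i₀ ⋙ D).map f)) :=
    fun f => inferInstanceAs (PreservesFiniteLimits (EtCoh.pull (D.map f.left)))
  let c' := c.whisker (Over.forget i₀)
  haveI : ∀ o, PreservesFiniteLimits (EtCoh.pull (c'.π.app o)) :=
    fun o => inferInstanceAs (PreservesFiniteLimits (EtCoh.pull (c.π.app o.left)))
  have hc' : IsLimit c' := (Functor.Initial.isLimitWhiskerEquiv (Over.forget i₀) c).symm hc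
  let M₀ := (EtCoh.pull (c.π.app i₀)).obj F₀
  let G := (Functor.const (Over i₀)ᵒᵖ).obj M₀
  obtain ⟨hs, hi⟩ := General.cont (c := c') hc' (sys i₀ F₀) G (ψ c i₀ F₀) (fun f => hb c i₀ F₀ f) p
  haveI : IsConnected (Over i₀)ᵒᵖ := IsFiltered.isConnected _
  let e : colimit G ⟶ M₀ := colimit.desc G (constCocone _ M₀)
  haveI : IsIso e :=
    inferInstanceAs (IsIso ((colimit.isColimit G).coconePointUniqueUpToIso (isColimitConstCocone _ M₀)).hom)
  have key : ∀ (o : Over i₀) (y : EtCoh.H (D.obj o.left) ((EtCoh.pull (D.map o.hom)).obj F₀) p),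
      EtCore.HpullVia (c.π.app o.left) (D.map o.hom) (c.π.app i₀) (c.w o.hom) F₀ p y =
        Sheaf.H.map e p (Hm (c.π.app o.left) (Colim.a (c := c') (sys i₀ F₀) G (ψ c i₀ F₀) o) p y) := by
    intro o y
    refine Eq.trans ?_ (Hm_post (c.π.app o.left) _ e p y).symm
    refine (OfPreorder.HpullThen_eq (c.π.app o.left) _ ((ψ c i₀ F₀ o).hom) p y).trans ?_
    refine congrArg (fun m => Hm (c.π.app o.left) m p y) ?_
    refine Eq.trans ?_ (Category.assoc _ _ _).symm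
    refine Eq.trans (Category.comp_id _).symm (_ ≫= ?_)
    refine Eq.trans ?_ ((EtCoh.push (c.π.app o.left)).map_comp _ _)
    exact ((EtCoh.push (c.π.app o.left)).map_id _).symm.trans
      (congrArg (EtCoh.push (c.π.app o.left)).map (colimit.ι_desc (constCocone _ M₀) (op o)).symm)
  refine ⟨fun ξ => ?_, fun j g y hy => ?_⟩
  · obtain ⟨o, y, hy⟩ := hs (Sheaf.H.map (inv e) p ξ)
    refine ⟨o.left, o.hom, y, (key o y).trans ?_⟩
    refine (congrArg (Sheaf.H.map e p) hy).trans ?_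
    rw [← Sheaf.H.map_comp_apply, IsIso.inv_hom_id, Sheaf.H.map_id_apply]
  · have h0 : Hm (c.π.app j) (Colim.a (c := c') (sys i₀ F₀) G (ψ c i₀ F₀) (Over.mk g)) p y = 0 := by
      have h := congrArg (Sheaf.H.map (inv e) p) ((key (Over.mk g) y).symm.trans hy)
      rwa [map_zero, ← Sheaf.H.map_comp_apply, IsIso.hom_inv_id, Sheaf.H.map_id_apply] at h
    obtain ⟨o, f, hk⟩ := hi (Over.mk g) y h0
    refine ⟨o.left, f.left, ?_⟩
    let γ := (β (hom_map i₀ f)).app F₀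
    have h1 : Sheaf.H.map γ.hom p (EtCore.Hpull (D.map f.left) _ p y) = 0 :=
      (OfPreorder.HpullThen_eq (D.map f.left) _ γ.hom p y).trans hk
    have h2 := congrArg (Sheaf.H.map γ.inv p) h1
    rwa [map_zero, ← Sheaf.H.map_comp_apply, Iso.hom_inv_id, Sheaf.H.map_id_apply] at h2

end Groth.Agent.Lib.Cont50.Single
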