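import Groth.Agent.Lib.Cont50.Local
import Groth.Agent.H88.EtMod.CohColim
import Groth.Agent.Lib.EtH1Gm.Lift

/-!
# Cohomology of systems: vanishing and comparison with direct images
-/

universe u

open CategoryTheory CategoryTheory.Limits AlgebraicGeometry Opposite TopologicalSpace

set_option backward.isDefEq.respectTransparency false
set_option linter.style.haveILetI false
set_option linter.unusedSectionVars false

noncomputable section

namespace Groth.Agent.Lib.Cont50.Cohom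

open Groth.Agent.Lib.EtSite Sys Local Groth.Agent.H88.EtMod

section affine

variable {X : Scheme.{u}}

theorem exists_affine_nhd (U : X.Etale) (x : Sc U) :
    ∃ (W : X.Etale) (g : W ⟶ U), IsAffine (Sc W) ∧ x ∈ Set.range (Hl g).base := by
  obtain ⟨O, hO, hx, -⟩ := exists_isAffineOpen_mem_and_subset (U := ⊤) (x := x) trivial
  exact ⟨EtH1Gm.Lift.sub U O, EtH1Gm.Lift.subι U O, hO, ⟨x, hx⟩, rfl⟩

theorem hom_eq_zero {F G : EtCoh.Ab X} (f : F ⟶ G)
    (h : ∀ (U : X.Etale), IsAffine (Sc U) → ∀ s, f.hom.app (op U) s = 0) : f = 0 := by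
  apply Sheaf.hom_ext
  refine NatTrans.ext (funext fun U => ?_)
  refine AddCommGrpCat.ext fun s => ?_
  obtain ⟨U⟩ := U
  refine Stalk.sections_ext G _ 0 fun x => ?_
  obtain ⟨W, g, hW, hx⟩ := exists_affine_nhd U x
  exact ⟨W, g, ((NatTrans.naturality_apply f.hom g.op s).symm.trans (h W hW _)).trans (map_zero _).symm,
    hx⟩

theorem isIso_of_affine {F G : EtCoh.Ab X} (f : F ⟶ G)
    (h : ∀ (U : X.Etale), IsAffine (Sc U) → Function.Bijective (f.hom.app (op U))) : IsIso f := by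
  haveI : Mono f := Sheaf.mono_of_injective f fun U s t hst => by
    refine Stalk.sections_ext F s t fun x => ?_
    obtain ⟨W, g, hW, hx⟩ := exists_affine_nhd U.unop x
    refine ⟨W, g, (h W hW).1 ?_, hx⟩
    rw [NatTrans.naturality_apply, NatTrans.naturality_apply, hst]
  haveI : Epi f := by
    have : Sheaf.IsLocallySurjective f := ⟨fun {U} t => (Basic.mem_topology_iff _).2 fun x => by
      obtain ⟨W, g, hW, hx⟩ := exists_affine_nhd U x
      exact ⟨W, g, (h W hW).2 _, hx⟩⟩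
    exact (Sheaf.isLocallySurjective_iff_epi' _ f).1 this
  exact isIso_of_mono_of_epi f

end affine

variable {I : Type u} [SmallCategory I] [Quiver.IsThin I] {D : I ⥤ Scheme.{u}}

/-- Stages over `j`, with a counter to exclude isomorphisms. -/
structure Idx (j : I) where
  k : I
  φ : k ⟶ j
  n : ℕ

instance (j : I) : PartialOrder (Idx j) where
  le a b := a = b ∨ (Nonempty (b.k ⟶ a.k) ∧ a.n < b.n)
  le_refl a := Or.inl rfl
  le_trans a b c := by
    rintro (rfl | ⟨⟨g⟩, h⟩) (rfl | ⟨⟨g'⟩, h'⟩)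
    · exact Or.inl rfl
    · exact Or.inr ⟨⟨g'⟩, h'⟩
    · exact Or.inr ⟨⟨g⟩, h⟩
    · exact Or.inr ⟨⟨g' ≫ g⟩, h.trans h'⟩
  le_antisymm a b := by
    rintro (rfl | ⟨-, h⟩) (h' | ⟨-, h'⟩)
    · rfl
    · rfl
    · exact h'.symm
    · exact absurd h' (lt_asymm h)

theorem Idx.le_of {j : I} (a b : Idx j) (g : b.k ⟶ a.k) (h : a.n < b.n) : a ≤ b :=
  Or.inr ⟨⟨g⟩, h⟩

variable [IsCofiltered I]

instance (j : I) : Nonempty (Idx j) := ⟨⟨j, 𝟙 j, 0⟩⟩

instance (j : I) : IsDirectedOrder (Idx j) := ⟨fun a b =>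
  ⟨⟨IsCofiltered.min a.k b.k, IsCofiltered.minToLeft a.k b.k ≫ a.φ, max a.n b.n + 1⟩,
    Idx.le_of _ _ (IsCofiltered.minToLeft _ _) (Nat.lt_succ_of_le (le_max_left _ _)),
    Idx.le_of _ _ (IsCofiltered.minToRight _ _) (Nat.lt_succ_of_le (le_max_right _ _))⟩⟩

variable (S : System D)

/-- A stage pushed down to `j`. -/
abbrev obj' {j : I} (a : Idx j) : EtCoh.Ab (D.obj j) := (EtCoh.push (D.map a.φ)).obj (S.G a.k)

/-- The transition map between stages pushed down to `j`. -/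
def mapGen {j : I} {a b : Idx j} (g : b.k ⟶ a.k) : obj' S a ⟶ obj' S b :=
  (EtCoh.push (D.map a.φ)).map (S.t g) ≫
    (P2 (D.map a.φ) (D.map g) (map_map g a.φ b.φ)).hom.app (S.G b.k)

theorem t_mapGen {j : I} {a b : Idx j} (g : b.k ⟶ a.k) : S.t a.φ ≫ mapGen S g = S.t b.φ :=
  S.comp g a.φ b.φ (map_map _ _ _)

theorem mapGen_comp {j : I} {a b c : Idx j} (g : b.k ⟶ a.k) (g' : c.k ⟶ b.k) :
    mapGen S g ≫ mapGen S g' = mapGen S (g' ≫ g) := by
  simp only [mapGen, Category.assoc]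
  rw [← S.comp g' g (g' ≫ g) (map_map _ _ _), (EtCoh.push (D.map a.φ)).map_comp,
    (EtCoh.push (D.map a.φ)).map_comp, Category.assoc, Category.assoc]
  refine _ ≫= ?_
  have h := P2_assoc (map_map g a.φ b.φ) (map_map g' g (g' ≫ g)) (map_map g' b.φ c.φ)
    (map_map (g' ≫ g) a.φ c.φ) (S.G c.k)
  refine Eq.trans ?_ ((congrArg (((EtCoh.push (D.map a.φ)).map
    ((EtCoh.push (D.map g)).map (S.t g'))) ≫ ·) h).trans rfl)
  refine (Category.assoc _ _ _).symm.trans (Eq.trans ?_ (Category.assoc _ _ _))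
  exact congrArg (· ≫ _) ((P2 (D.map a.φ) (D.map g) (map_map g a.φ b.φ)).hom.naturality (S.t g')).symm

open Classical in
/-- The transition maps. -/
def map' {j : I} {a b : Idx j} (h : a ≤ b) : obj' S a ⟶ obj' S b :=
  if e : a = b then eqToHom (congrArg (obj' S) e) else mapGen S (h.resolve_left e).1.some

theorem map'_eq {j : I} {a b : Idx j} (h : a ≤ b) (e : a ≠ b) (g : b.k ⟶ a.k) :
    map' S h = mapGen S g := by
  rw [map', dif_neg e, Subsingleton.elim g _]

theorem map'_rfl {j : I} (a : Idx j) (h : a ≤ a) : map' S h = 𝟙 _ := by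
  rw [map', dif_pos rfl]
  rfl

/-- The diagram of the stages over `j`. -/
def diag (j : I) : Idx j ⥤ EtCoh.Ab (D.obj j) where
  obj := obj' S
  map h := map' S (leOfHom h)
  map_id a := map'_rfl S a _
  map_comp {a b c} h h' := by
    by_cases e : a = b
    · subst e
      rw [map'_rfl, Category.id_comp]
    by_cases e' : b = c
    · subst e'
      rw [map'_rfl, Category.comp_id]
    obtain ⟨⟨g⟩, hn⟩ := (leOfHom h).resolve_left e
    obtain ⟨⟨g'⟩, hn'⟩ := (leOfHom h').resolve_left e'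
    have e'' : a ≠ c := fun he => absurd (hn.trans hn') (he ▸ lt_irrefl _)
    rw [map'_eq S _ e'' (g' ≫ g), map'_eq S _ e g, map'_eq S _ e' g', mapGen_comp]

/-- The canonical map to the colimit of the stages. -/
def unit (j : I) : S.G j ⟶ colimit (diag S j) :=
  S.t (𝟙 j) ≫ colimit.ι (diag S j) ⟨j, 𝟙 j, 0⟩

theorem t_ι {j : I} (a : Idx j) : S.t a.φ ≫ colimit.ι (diag S j) a = unit S j := by
  let a₀ : Idx j := ⟨j, 𝟙 j, 0⟩
  let b : Idx j := ⟨a.k, a.φ, a.n + 1⟩
  have h₁ : a ≤ b := Idx.le_of _ _ (𝟙 a.k) (Nat.lt_succ_self _)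
  have h₂ : a₀ ≤ b := Idx.le_of _ _ a.φ (Nat.succ_pos _)
  have n₁ : a ≠ b := fun e => Nat.succ_ne_self a.n (congrArg Idx.n e).symm
  have n₂ : a₀ ≠ b := fun e => Nat.succ_ne_zero a.n (congrArg Idx.n e).symm
  rw [← colimit.w (diag S j) (homOfLE h₁), unit, ← colimit.w (diag S j) (homOfLE h₂)]
  refine (Category.assoc _ _ _).symm.trans ((congrArg (· ≫ _) ?_).trans (Category.assoc _ _ _))
  change _ ≫ map' S h₁ = _ ≫ map' S h₂
  rw [map'_eq S h₁ n₁ (𝟙 a.k), map'_eq S h₂ n₂ a.φ]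
  exact (t_mapGen S (a := a) (b := b) (𝟙 a.k)).trans (t_mapGen S (a := a₀) (b := b) a.φ).symm

variable [∀ {k j : I} (φ : k ⟶ j), PreservesFiniteLimits (EtCoh.pull (D.map φ))]

theorem exists_Hm_eq_zero (j : I) [CompactSpace (D.obj j)] [QuasiSeparatedSpace (D.obj j)]
    (n : ℕ) (x : EtCoh.H (D.obj j) (S.G j) n) (hx : Sheaf.H.map (unit S j) n x = 0) :
    ∃ (k : I) (φ : k ⟶ j), Hm (D.map φ) (S.t φ) n x = 0 := by
  let a₀ : Idx j := ⟨j, 𝟙 j, 0⟩
  obtain ⟨b, h, hb⟩ := (CohColim.good (diag S j) n).2 a₀ (Sheaf.H.map (S.t a₀.φ) n x)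
    ((Sheaf.H.map_comp_apply _ _ _).symm.trans hx)
  refine ⟨b.k, b.φ, ?_⟩
  change EtLim.HofPush (D.map b.φ) (S.G b.k) n (Sheaf.H.map (S.t b.φ) n x) = 0
  by_cases e : a₀ = b
  · subst e
    rw [show (diag S j).map h = 𝟙 _ from map'_rfl S a₀ (le_refl _)] at hb
    rw [Sheaf.H.map_id_apply] at hb
    rw [hb, map_zero]
  · obtain ⟨⟨g⟩, -⟩ := (leOfHom h).resolve_left e
    have h1 : Sheaf.H.map (S.t b.φ) n x =
        Sheaf.H.map ((diag S j).map h) n (Sheaf.H.map (S.t a₀.φ) n x) :=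
      ((congrArg (fun m => Sheaf.H.map m n x) ((congrArg (S.t a₀.φ ≫ ·) (map'_eq S (leOfHom h) e g)).trans
        (t_mapGen S g))).symm.trans (Sheaf.H.map_comp_apply _ _ _))
    rw [h1, hb, map_zero]

/-- A system all of whose local sections die has cohomology dying. -/
theorem null (hnull : ∀ (j : I) (U : (D.obj j).Etale), IsAffine (Sc U) → ∀ s,
      ∃ (k : I) (φ : k ⟶ j), tr S φ U s = 0)
    (j : I) [CompactSpace (D.obj j)] [QuasiSeparatedSpace (D.obj j)] (n : ℕ)
    (x : EtCoh.H (D.obj j) (S.G j) n) : ∃ (k : I) (φ : k ⟶ j), Hm (D.map φ) (S.t φ) n x = 0 := by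
  refine exists_Hm_eq_zero S j n x ?_
  have h0 : unit S j = 0 := hom_eq_zero _ fun U hU s => by
    obtain ⟨k, φ, hk⟩ := hnull j U hU s
    rw [← t_ι S ⟨k, φ, 0⟩]
    exact (congrArg ((colimit.ι (diag S j) ⟨k, φ, 0⟩).hom.app (op U)) hk).trans (map_zero _)
  rw [h0]
  simp [Sheaf.H.map]

section Target

variable (c : Cone D) (M : EtCoh.Ab c.pt) (a : ∀ j, S.G j ⟶ (EtCoh.push (c.π.app j)).obj M)
  (ha : IsTarget S c M a)

/-- The comparison of the stages with the target. -/
def κapp {j : I} (b : Idx j) : obj' S b ⟶ (EtCoh.push (c.π.app j)).obj M :=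
  (EtCoh.push (D.map b.φ)).map (a b.k) ≫
    (P2 (D.map b.φ) (c.π.app b.k) (c.w b.φ)).hom.app M

include ha in
theorem mapGen_κ {j : I} {b b' : Idx j} (g : b'.k ⟶ b.k) :
    mapGen S g ≫ κapp S c M a b' = κapp S c M a b := by
  simp only [mapGen, κapp, Category.assoc]
  rw [← ha g, (EtCoh.push (D.map b.φ)).map_comp, (EtCoh.push (D.map b.φ)).map_comp, Category.assoc,
    Category.assoc]
  refine _ ≫= ?_
  have h := P2_assoc (map_map g b.φ b'.φ) (c.w g) (c.w b'.φ) (c.w b.φ) M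
  refine Eq.trans ?_ ((congrArg (((EtCoh.push (D.map b.φ)).map
    ((EtCoh.push (D.map g)).map (a b'.k))) ≫ ·) h).trans rfl)
  refine (Category.assoc _ _ _).symm.trans (Eq.trans ?_ (Category.assoc _ _ _))
  exact congrArg (· ≫ _) ((P2 (D.map b.φ) (D.map g) (map_map g b.φ b'.φ)).hom.naturality (a b'.k)).symm

/-- The comparison map. -/
def κ (j : I) : colimit (diag S j) ⟶ (EtCoh.push (c.π.app j)).obj M :=
  colimit.desc (diag S j)
    { pt := (EtCoh.push (c.π.app j)).obj M
      ι :=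
        { app := fun b => κapp S c M a b
          naturality := fun b b' h => by
            refine Eq.trans ?_ (Category.comp_id _).symm
            by_cases e : b = b'
            · subst e
              exact (congrArg (· ≫ _) (map'_rfl S b (leOfHom h))).trans (Category.id_comp _)
            · obtain ⟨⟨g⟩, -⟩ := (leOfHom h).resolve_left e
              exact (congrArg (· ≫ _) (map'_eq S (leOfHom h) e g)).trans (mapGen_κ S c M a ha g) } }

theorem unit_κ (j : I) : unit S j ≫ κ S c M a ha j = a j := by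
  rw [unit, Category.assoc, κ, colimit.ι_desc]
  exact ha (𝟙 j)

variable (hmono : ∀ j, Mono (a j))
  (hss : ∀ (j : I) (U : (D.obj j).Etale), IsAffine (Sc U) →
    ∀ t : ((EtCoh.push (c.π.app j)).obj M).obj.obj (op U), ∃ (k : I) (φ : k ⟶ j)
      (y : (S.G k).obj.obj (op ((EtCoh.bc (D.map φ)).obj U))),
      ((P2 (D.map φ) (c.π.app k) (c.w φ)).hom.app M).hom.app (op U)
        ((a k).hom.app (op ((EtCoh.bc (D.map φ)).obj U)) y) = t)

include hmono hss in
theorem isIso_κ (j : I) : IsIso (κ S c M a ha j) := by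
  refine isIso_of_affine _ fun U hU => ?_
  haveI : CompactSpace U.left := inferInstanceAs (CompactSpace (Sc U))
  haveI : QuasiSeparatedSpace U.left := inferInstanceAs (QuasiSeparatedSpace (Sc U))
  haveI : PreservesFilteredColimitsOfSize.{u, u} (forget AddCommGrpCat.{u + 1}) :=
    preservesFilteredColimitsOfSize_of_univLE.{u + 1, u + 1, u, u} _
  haveI : HasColimitsOfShape (Idx j) AddCommGrpCat.{u + 1} := inferInstance
  haveI := FilteredSections.preservesColimits (I := Idx j) (A := AddCommGrpCat.{u + 1}) U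
  have h := isColimitOfPreserves (sheafToPresheaf (D.obj j).smallEtaleTopology AddCommGrpCat.{u + 1} ⋙
    (evaluation _ _).obj (op U)) (colimit.isColimit (diag S j))
  have hι : ∀ (b : Idx j) (y : (obj' S b).obj.obj (op U)), (κ S c M a ha j).hom.app (op U)
      ((colimit.ι (diag S j) b).hom.app (op U) y) = (κapp S c M a b).hom.app (op U) y := fun b y =>
    have e : colimit.ι (diag S j) b ≫ κ S c M a ha j = κapp S c M a b := colimit.ι_desc _ b
    (ConcreteCategory.comp_apply _ _ y).symm.trans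
      (congrArg (fun m => (ConcreteCategory.hom m) y) (congrArg (fun m => m.hom.app (op U)) e))
  refine ⟨(injective_iff_map_eq_zero _).2 fun x hx => ?_, fun t => ?_⟩
  · obtain ⟨b, y, rfl⟩ := Concrete.isColimit_exists_rep _ h x
    have hy : (κapp S c M a b).hom.app (op U) y = 0 := (hι b y).symm.trans hx
    have : Mono (κapp S c M a b) := by
      haveI := hmono b.k
      haveI := mono_push_map (D.map b.φ) (a b.k)
      exact mono_comp _ _
    haveI : Mono ((sheafToPresheaf _ _).map (κapp S c M a b)) := inferInstance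
    have hinj : Function.Injective ((κapp S c M a b).hom.app (op U)) :=
      (AddCommGrpCat.mono_iff_injective _).1 (inferInstanceAs
        (Mono (((sheafToPresheaf _ _).map (κapp S c M a b)).app (op U))))
    exact (congrArg _ (hinj (hy.trans (map_zero _).symm))).trans (map_zero _)
  · obtain ⟨k, φ, y, hy⟩ := hss j U hU t
    exact ⟨(colimit.ι (diag S j) ⟨k, φ, 0⟩).hom.app (op U) y, (hι ⟨k, φ, 0⟩ y).trans hy⟩

variable [∀ j, CompactSpace (D.obj j)] [∀ j, QuasiSeparatedSpace (D.obj j)]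

include ha hmono hss in
theorem exists_lift (j : I) (n : ℕ) (x : EtCoh.H (D.obj j) ((EtCoh.push (c.π.app j)).obj M) n) :
    ∃ (k : I) (φ : k ⟶ j) (y : EtCoh.H (D.obj k) (S.G k) n),
      Sheaf.H.map (a k) n y =
        Hm (D.map φ) ((P2 (D.map φ) (c.π.app k) (c.w φ)).inv.app M) n x := by
  haveI := isIso_κ S c M a ha hmono hss j
  obtain ⟨b, y, hy⟩ := (CohColim.good (diag S j) n).1 (Sheaf.H.map (inv (κ S c M a ha j)) n x)
  refine ⟨b.k, b.φ, EtLim.HofPush (D.map b.φ) (S.G b.k) n y, ?_⟩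
  have hx : x = Sheaf.H.map (κapp S c M a b) n y := by
    have h := congrArg (Sheaf.H.map (κ S c M a ha j) n) hy
    rw [← Sheaf.H.map_comp_apply, ← Sheaf.H.map_comp_apply, IsIso.inv_hom_id,
      Sheaf.H.map_id_apply] at h
    rw [← h]
    exact congrArg (fun m => Sheaf.H.map m n y) (colimit.ι_desc _ b)
  have hid : EtLim.HofPush (D.map b.φ) (S.G b.k) n y =
      Hm (D.map b.φ) (𝟙 ((EtCoh.push (D.map b.φ)).obj (S.G b.k))) n y :=
    (congrArg (EtLim.HofPush (D.map b.φ) (S.G b.k) n) (Sheaf.H.map_id_apply _)).symm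
  rw [hx, hid, Hm_post]
  refine Eq.trans ?_ (Hm_pre (D.map b.φ) (κapp S c M a b) _ n y).symm
  refine congrArg (fun m => Hm (D.map b.φ) m n y) ?_
  refine (Category.id_comp _).trans ?_
  refine ((Category.assoc _ _ _).trans ?_).symm
  exact (congrArg ((EtCoh.push (D.map b.φ)).map (a b.k) ≫ ·)
    ((P2 (D.map b.φ) (c.π.app b.k) (c.w b.φ)).hom_inv_id_app M)).trans (Category.comp_id _)

include ha hmono hss in
theorem exists_dies (j : I) (n : ℕ) (x : EtCoh.H (D.obj j) (S.G j) n)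
    (hx : Sheaf.H.map (a j) n x = 0) : ∃ (k : I) (φ : k ⟶ j), Hm (D.map φ) (S.t φ) n x = 0 := by
  haveI := isIso_κ S c M a ha hmono hss j
  refine exists_Hm_eq_zero S j n x ?_
  have e : unit S j = a j ≫ inv (κ S c M a ha j) := (IsIso.eq_comp_inv _).2 (unit_κ S c M a ha j)
  rw [e, Sheaf.H.map_comp_apply, hx, map_zero]

end Target

end Groth.Agent.Lib.Cont50.Cohom
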