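import Groth.Agent.Lib.Cont50.Local
import Groth.Agent.Lib.Lim.SmoothEtale
import Groth.Agent.Lib.Lim.FPDescend

/-!
# Étale objects over a stage object descend
-/

universe u

open CategoryTheory CategoryTheory.Limits AlgebraicGeometry Opposite TopologicalSpace

set_option backward.isDefEq.respectTransparency false
set_option linter.style.haveILetI false
set_option linter.unusedSectionVars false

noncomputable section

namespace Groth.Agent.Lib.Cont50.Stage

open Groth.Agent.Lib.EtSite Sys Local Groth.Agent.Lib.Lim Groth.Agent.Lib.Lim.Basic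

variable {I : Type u} [SmallCategory I] {D : I ⥤ Scheme.{u}} {c : Cone D}

/-- The base change of a stage of a base change, to the limit. -/
theorem θ_fst_ρ {k j : I} (φ : k ⟶ j) (U : (D.obj j).Etale) :
    Hl (θ (D.map φ) (c.π.app k) (c.w φ) U).hom ≫
      pullback.fst ((EtCoh.bc (D.map φ)).obj U).hom (c.π.app k) = ρ φ U := by
  refine pullback.hom_ext ?_ ?_
  · exact ((Category.assoc _ _ _).trans (θ_fst _ _ (c.w φ) U)).trans (ρ_fst φ U).symm
  · refine ((Category.assoc _ _ _).trans (_ ≫= pullback.condition)).trans ?_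
    exact ((Category.assoc _ _ _).symm.trans (congrArg (· ≫ _) (θ_snd _ _ (c.w φ) U))).trans
      (ρ_snd φ U).symm

variable [IsCofiltered I] [∀ {i j : I} (f : i ⟶ j), IsAffineHom (D.map f)] (hc : IsLimit c)

include hc in
/-- A qcqs étale object over the base change of `U` to the limit comes from a stage. -/
theorem exists_stage {j : I} (U : (D.obj j).Etale) [hUc : CompactSpace (Sc U)]
    [hUq : QuasiSeparatedSpace (Sc U)] {V : c.pt.Etale} (g : V ⟶ (EtCoh.bc (c.π.app j)).obj U)
    [CompactSpace (Sc V)] [QuasiSeparatedSpace (Sc V)] :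
    ∃ (k : I) (φ : k ⟶ j) (V' : (D.obj k).Etale) (e : V' ⟶ (EtCoh.bc (D.map φ)).obj U)
      (μ : (EtCoh.bc (c.π.app k)).obj V' ⟶ V),
      μ ≫ g = (EtCoh.bc (c.π.app k)).map e ≫ (θ (D.map φ) (c.π.app k) (c.w φ) U).inv ∧
      ∀ v : Sc V, (ρ φ U).base ((Hl g).base v) ∈ Set.range (Hl e).base := by
  haveI : CompactSpace ((𝟭 Scheme.{u}).obj U.left) := hUc
  haveI : QuasiSeparatedSpace ((𝟭 Scheme.{u}).obj U.left) := hUq
  let h₀ := IsPullback.of_hasPullback U.hom (c.π.app j)
  let D' := bcDiagram D U.hom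
  let c' : Cone D' := bcCone h₀.w
  have hc' : IsLimit c' := isLimitBcCone hc h₀
  haveI haff : ∀ {a b : Over j} (f : a ⟶ b), IsAffineHom (D'.map f) := fun f =>
    MorphismProperty.of_isPullback (P := @IsAffineHom) (isPullback_bcDiagram_map D U.hom f).flip
      inferInstance
  haveI hcp : ∀ o, CompactSpace (D'.obj o) := fun o => compactSpace_bcDiagram D U.hom o
  haveI hqp : ∀ o, QuasiSeparatedSpace (D'.obj o) := fun o => quasiSeparatedSpace_bcDiagram D U.hom o
  let g₀ : Sc V ⟶ c'.pt := Hl g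
  haveI hg : Etale g₀ := Fiber.etale_left g
  haveI : LocallyOfFinitePresentation g₀ := inferInstance
  obtain ⟨o, Xi, fi, g', hXc, hXq, hfi, hP⟩ := FPDescend.exists_descent hc' g₀
  obtain ⟨o', φ, hφ⟩ := SmoothEtale.etale_descends D' c' hc' (fun _ _ f => haff f) o (hcp o) (hqp o)
    fi hXc hXq hfi g₀ g' hP hg
  let U' := (EtCoh.bc (D.map o'.hom)).obj U
  haveI : Etale U'.hom := U'.prop
  let s : pullback fi (D'.map φ) ⟶ Sc U' := pullback.snd fi (D'.map φ)
  haveI : Etale s := hφ
  let V' : (D.obj o'.left).Etale := Scheme.Etale.mk (s ≫ U'.hom)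
  let e : V' ⟶ U' := MorphismProperty.Over.homMk s rfl
  let einf := (EtCoh.bc (c.π.app o'.left)).map e ≫
    (θ (D.map o'.hom) (c.π.app o'.left) (c.w o'.hom) U).inv
  let p : Sc ((EtCoh.bc (c.π.app o'.left)).obj V') ⟶ pullback fi (D'.map φ) :=
    pullback.fst V'.hom (c.π.app o'.left)
  have key : p ≫ s = Hl einf ≫ ρ o'.hom U := by
    have h1 : Hl (θ (D.map o'.hom) (c.π.app o'.left) (c.w o'.hom) U).inv ≫ ρ o'.hom U =
        pullback.fst U'.hom (c.π.app o'.left) := by
      rw [← θ_fst_ρ]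
      refine (Category.assoc _ _ _).symm.trans ((congrArg (· ≫ _) ?_).trans (Category.id_comp _))
      exact congrArg CommaMorphism.left (congrArg MorphismProperty.Comma.Hom.hom
        (θ (D.map o'.hom) (c.π.app o'.left) (c.w o'.hom) U).inv_hom_id)
    refine Eq.trans ?_ ((Category.assoc _ _ _).trans (_ ≫= h1)).symm
    exact (EtCoh.isPullback_bc_map (c.π.app o'.left) e).w.symm
  have hρ : ρ o'.hom U ≫ D'.map φ = c'.π.app o := c'.w φ
  have w : (p ≫ pullback.fst fi (D'.map φ)) ≫ fi = Hl einf ≫ c'.π.app o := by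
    rw [Category.assoc, pullback.condition]
    refine (Category.assoc _ _ _).symm.trans ((congrArg (· ≫ D'.map φ) key).trans ?_)
    exact (Category.assoc _ _ _).trans (_ ≫= hρ)
  let m : Sc ((EtCoh.bc (c.π.app o'.left)).obj V') ⟶ Sc V :=
    hP.lift (p ≫ pullback.fst fi (D'.map φ)) (Hl einf) w
  have hm : m ≫ Hl g = Hl einf := hP.lift_snd _ _ _
  let μ : (EtCoh.bc (c.π.app o'.left)).obj V' ⟶ V := MorphismProperty.Over.homMk m (by
    have e1 : Hl g ≫ ((EtCoh.bc (c.π.app j)).obj U).hom = V.hom := Over.w g.hom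
    refine (_ ≫= e1.symm).trans ((Category.assoc _ _ _).symm.trans ?_)
    exact (congrArg (· ≫ _) hm).trans (Over.w einf.hom))
  refine ⟨o'.left, o'.hom, V', e, μ, MorphismProperty.Over.Hom.ext hm, fun v => ?_⟩
  refine ⟨(pullback.lift g' (g₀ ≫ c'.π.app o') (by rw [Category.assoc, c'.w, hP.w]) :
    Sc V ⟶ pullback fi (D'.map φ)).base v, ?_⟩
  exact congr($(pullback.lift_snd g' (g₀ ≫ c'.π.app o') _) v)

end Groth.Agent.Lib.Cont50.Stage
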