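import Groth.Agent.Lib.Cont50.Shift
import Groth.Agent.Lib.Cont50.Stage

/-!
# Cohomology of a limit with coefficients pushed forward to the stages
-/

universe u

open CategoryTheory CategoryTheory.Limits AlgebraicGeometry Opposite CategoryTheory.Abelian

set_option backward.isDefEq.respectTransparency false
set_option linter.style.haveILetI false
set_option linter.unusedSectionVars false

noncomputable section

namespace Groth.Agent.Lib.Cont50.Push

open Groth.Agent.Lib.EtSite Sys Local Cohom Shift Groth.Agent.Lib.SiteCoh.CechAcyclic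
open Groth.Agent.H88.EtMod

variable {I : Type u} [SmallCategory I] [Quiver.IsThin I] {D : I ⥤ Scheme.{u}} (c : Cone D)

theorem P2_inv_app {X Y Z : Scheme.{u}} (u : X ⟶ Y) (v : Z ⟶ X) {w₀ : Z ⟶ Y} (w : v ≫ u = w₀)
    (V : Y.Etale) (N : EtCoh.Ab Z) :
    ((P2 u v w).inv.app N).hom.app (op V) = N.obj.map (θ u v w V).inv.op := by
  have h1 : ((P2 u v w).hom.app N).hom.app (op V) ≫ ((P2 u v w).inv.app N).hom.app (op V) = 𝟙 _ :=
    congrArg (fun m => m.hom.app (op V)) ((P2 u v w).hom_inv_id_app N)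
  have h2 : N.obj.map (θ u v w V).inv.op ≫ ((P2 u v w).hom.app N).hom.app (op V) = 𝟙 _ := by
    rw [θ_app]
    refine (N.obj.map_comp _ _).symm.trans ((congrArg N.obj.map ?_).trans (N.obj.map_id _))
    exact (congrArg Quiver.Hom.op (θ u v w V).hom_inv_id).trans op_id
  exact ((Category.id_comp _).symm.trans ((congrArg (· ≫ _) h2.symm).trans
    ((Category.assoc _ _ _).trans ((_ ≫= h1).trans (Category.comp_id _)))))

theorem HofPush_eq {X Y : Scheme.{u}} (f : X ⟶ Y) [PreservesFiniteLimits (EtCoh.pull f)]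
    (F : EtCoh.Ab X) (n : ℕ) (x : EtCoh.H Y ((EtCoh.push f).obj F) n) :
    EtLim.HofPush f F n x = Hm f (𝟙 ((EtCoh.push f).obj F)) n x :=
  (congrArg (EtLim.HofPush f F n) (Sheaf.H.map_id_apply x)).symm

variable [IsCofiltered I] [∀ {i j : I} (f : i ⟶ j), IsAffineHom (D.map f)]

section SS

variable (hc : IsLimit c) (S : System D) (M : EtCoh.Ab c.pt)
  (a : ∀ j, S.G j ⟶ (EtCoh.push (c.π.app j)).obj M)

include hc in
/-- Sections of the target come from stages as soon as they do so locally. -/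
theorem ss_of_local (ha : IsTarget S c M a) (hmono : ∀ j, Mono (a j))
    (hloc : ∀ (j : I) (U : (D.obj j).Etale), IsAffine (Sc U) →
      ∀ (t : M.obj.obj (op ((EtCoh.bc (c.π.app j)).obj U))) (z : Sc ((EtCoh.bc (c.π.app j)).obj U)),
      ∃ (k : I) (φ : k ⟶ j) (V : (D.obj k).Etale) (e : V ⟶ (EtCoh.bc (D.map φ)).obj U)
        (y : (S.G k).obj.obj (op V)),
        (ρ φ U).base z ∈ Set.range (Hl e).base ∧
          (a k).hom.app (op V) y = M.obj.map ((EtCoh.bc (c.π.app k)).map e ≫
            (θ (D.map φ) (c.π.app k) (c.w φ) U).inv).op t)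
    (j : I) (U : (D.obj j).Etale) (hU : IsAffine (Sc U))
    (t : ((EtCoh.push (c.π.app j)).obj M).obj.obj (op U)) :
    ∃ (k : I) (φ : k ⟶ j) (y : (S.G k).obj.obj (op ((EtCoh.bc (D.map φ)).obj U))),
      ((P2 (D.map φ) (c.π.app k) (c.w φ)).hom.app M).hom.app (op U)
        ((a k).hom.app (op ((EtCoh.bc (D.map φ)).obj U)) y) = t := by
  let T := pushSystem c M
  let Z := fun i => cokernel.π (a i)
  have hSE : ∀ i, (ShortComplex.mk (a i) (Z i) (cokernel.condition _)).ShortExact := fun i =>
    haveI := hmono i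
    { exact := ShortComplex.exact_of_g_is_cokernel _ (cokernelIsCokernel (a i)) }
  have hle := fun i W => Groth.Agent.Lib.CechPsh.ShortExact.app_left_exact (hSE i) W
  have htrans : ∀ {k i : I} (φ : k ⟶ i) (V : (D.obj i).Etale) (s : (T.G i).obj.obj (op V)),
      (Z i).hom.app (op V) s = 0 → (Z k).hom.app (op _) (tr T φ V s) = 0 := by
    intro k i φ V s hs
    obtain ⟨y, rfl⟩ := (hle i _).2.2 s hs
    have h := congrArg (fun m => (ConcreteCategory.hom (m.hom.app (op V))) y) (IsTarget.isHom ha φ)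
    rw [show tr T φ V ((a i).hom.app (op V) y) =
      (a k).hom.app (op ((EtCoh.bc (D.map φ)).obj V)) (tr S φ V y) from h.symm]
    exact (hle k _).2.1 _
  haveI : CompactSpace (Sc U) := inferInstance
  obtain ⟨k, φ, hk⟩ := dies T hc (fun i => cokernel (a i)) Z htrans U t fun z => by
    obtain ⟨k, φ, V, e, y, hz, hy⟩ := hloc j U hU t z
    refine ⟨k, φ, V, e, hz, ?_⟩
    have h1 : (T.G k).obj.map e.op (tr T φ U t) = (a k).hom.app (op V) y := by
      rw [hy]
      refine (congrArg (fun m => (T.G k).obj.map e.op ((ConcreteCategory.hom m) t))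
        (P2_inv_app (D.map φ) (c.π.app k) (c.w φ) U M)).trans ?_
      exact (ConcreteCategory.comp_apply _ _ t).symm.trans
        (congrArg (fun m : M.obj.obj (op ((EtCoh.bc (c.π.app j)).obj U)) ⟶
            M.obj.obj (op ((EtCoh.bc (c.π.app k)).obj V)) => (ConcreteCategory.hom m) t)
          (M.obj.map_comp (θ (D.map φ) (c.π.app k) (c.w φ) U).inv.op
            ((EtCoh.bc (c.π.app k)).map e).op).symm)
    rw [h1]
    exact (hle k _).2.1 y
  obtain ⟨y, hy⟩ := (hle k _).2.2 _ hk
  refine ⟨k, φ, y, (congrArg _ hy).trans ?_⟩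
  exact (ConcreteCategory.comp_apply _ _ t).symm.trans (congrArg (fun m => (ConcreteCategory.hom m) t)
    (congrArg (fun m => m.hom.app (op U)) ((P2 (D.map φ) (c.π.app k) (c.w φ)).inv_hom_id_app M)))

end SS

variable [∀ {k j : I} (φ : k ⟶ j), PreservesFiniteLimits (EtCoh.pull (D.map φ))]
  [∀ j, PreservesFiniteLimits (EtCoh.pull (c.π.app j))]

/-- A map of sheaves on the limit gives a morphism of the systems of direct images. -/
theorem isHom_push {F G : EtCoh.Ab c.pt} (f : F ⟶ G) :
    IsHom (pushSystem c F) (pushSystem c G) fun j => (EtCoh.push (c.π.app j)).map f := by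
  intro k j φ
  exact ((P2 (D.map φ) (c.π.app k) (c.w φ)).inv.naturality f).symm

section Seq

variable {F J Q : EtCoh.Ab c.pt} (f : F ⟶ J) (g : J ⟶ Q) (w : f ≫ g = 0)

/-- The exact sequence at a stage. -/
def stageSeq (j : I) : ShortComplex (EtCoh.Ab (D.obj j)) :=
  ShortComplex.mk ((EtCoh.push (c.π.app j)).map f)
    (Abelian.factorThruImage ((EtCoh.push (c.π.app j)).map g)) (by
      haveI := (EtCoh.pullPushAdj (c.π.app j)).rightAdjoint_preservesLimits.{0, 0}
      rw [← cancel_mono (Abelian.image.ι _), zero_comp, Category.assoc, Abelian.image.fac,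
        ← Functor.map_comp, w, Functor.map_zero])

omit [IsCofiltered I] in
theorem stageSeq_shortExact (h : (ShortComplex.mk f g w).ShortExact) (j : I) :
    (stageSeq c f g w j).ShortExact := by
  haveI := (EtCoh.pullPushAdj (c.π.app j)).rightAdjoint_preservesLimits.{0, 0}
  haveI : PreservesFiniteLimits (EtCoh.push (c.π.app j)) := ⟨fun J _ _ => inferInstance⟩
  haveI : Mono f := h.mono_f
  let S₀ := (ShortComplex.mk f g w).map (EtCoh.push (c.π.app j))
  have he : S₀.Exact :=
    h.exact.map_of_mono_of_preservesKernel (EtCoh.push (c.π.app j)) h.mono_f inferInstance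
  have hm : Mono (stageSeq c f g w j).f := mono_push_map (c.π.app j) f
  refine { exact := ?_, mono_f := hm, epi_g := inferInstanceAs (Epi (Abelian.factorThruImage _)) }
  let φT : stageSeq c f g w j ⟶ S₀ :=
    { τ₁ := 𝟙 _, τ₂ := 𝟙 _, τ₃ := Abelian.image.ι _
      comm₁₂ := (Category.id_comp _).trans (Category.comp_id _).symm
      comm₂₃ := (Category.id_comp _).trans (Abelian.image.fac _).symm }
  have : Epi φT.τ₁ := inferInstanceAs (Epi (𝟙 _))
  have : IsIso φT.τ₂ := inferInstanceAs (IsIso (𝟙 _))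
  have : Mono φT.τ₃ := show Mono (Abelian.image.ι ((EtCoh.push (c.π.app j)).map g)) from
    inferInstanceAs (Mono (kernel.ι _))
  exact (ShortComplex.exact_iff_of_epi_of_isIso_of_mono φT).2 he

end Seq

variable [∀ j, CompactSpace (D.obj j)] [∀ j, QuasiSeparatedSpace (D.obj j)] {c}

/-- Continuity in degree `n` for direct images. -/
def Cont (c : Cone D) [∀ j, PreservesFiniteLimits (EtCoh.pull (c.π.app j))] (n : ℕ) : Prop :=
  ∀ F : EtCoh.Ab c.pt, SysSurj c (pushSystem c F) F (fun _ => 𝟙 _) n ∧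
    SysInj c (pushSystem c F) F (fun _ => 𝟙 _) n

theorem zero : Cont c 0 := by
  refine fun F => ⟨fun x => ?_, fun j y hy => ?_⟩
  · obtain ⟨j⟩ := IsCofiltered.nonempty (C := I)
    obtain ⟨φ, rfl⟩ := (Ext.mk₀_bijective _ _).2 x
    refine ⟨j, Ext.mk₀ ((EtCoh.pullPushAdj (c.π.app j)).homEquiv _ _
      ((EtCore.pullConst (c.π.app j) ℤ).hom ≫ φ)), ?_⟩
    refine (HofPush_eq _ F 0 _).symm.trans ?_
    refine (EtH1Gm.HofPush.HofPush_mk₀ (c.π.app j) F _).trans (congrArg Ext.mk₀ ?_)
    refine (Category.assoc _ _ _).trans ?_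
    refine (_ ≫= ((EtCoh.pullPushAdj (c.π.app j)).homEquiv_counit _ _ _).symm).trans ?_
    exact (_ ≫= ((EtCoh.pullPushAdj (c.π.app j)).homEquiv _ _).symm_apply_apply _).trans
      ((EtCore.pullConst (c.π.app j) ℤ).inv_hom_id_assoc φ)
  · refine ⟨j, 𝟙 j, ?_⟩
    have h0 : y = 0 := EtH1Gm.HofPush.HofPush_zero_injective (c.π.app j) F
      (((HofPush_eq _ F 0 y).trans hy).trans (map_zero _).symm)
    rw [h0, map_zero]

variable (hc : IsLimit c)

include hc in
/-- Local liftings along an epimorphism on the limit give sections of the images at stages. -/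
theorem ss_image {J Q : EtCoh.Ab c.pt} (g : J ⟶ Q) [Epi g] (j : I) (U : (D.obj j).Etale)
    (hU : IsAffine (Sc U)) (t : ((EtCoh.push (c.π.app j)).obj Q).obj.obj (op U)) :
    ∃ (k : I) (φ : k ⟶ j)
      (y : ((imSystem (isHom_push c g)).G k).obj.obj (op ((EtCoh.bc (D.map φ)).obj U))),
      ((P2 (D.map φ) (c.π.app k) (c.w φ)).hom.app Q).hom.app (op U)
        ((Abelian.image.ι ((EtCoh.push (c.π.app k)).map g)).hom.app
          (op ((EtCoh.bc (D.map φ)).obj U)) y) = t := by
  refine ss_of_local c hc (imSystem (isHom_push c g)) Q _ (IsHom.isTarget (isHom_image_ι (isHom_push c g)))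
    (fun i => inferInstance) ?_ j U hU t
  intro j U hU t z
  haveI : Sheaf.IsLocallySurjective g := (Sheaf.isLocallySurjective_iff_epi' _ g).2 inferInstance
  obtain ⟨V₀, g₀, ⟨b, hb⟩, v₀, hv₀⟩ := (Basic.mem_topology_iff _).1
    (Presheaf.imageSieve_mem c.pt.smallEtaleTopology g.hom (U := op ((EtCoh.bc (c.π.app j)).obj U)) t) z
  obtain ⟨V, i, hV, v, hv⟩ := exists_affine_nhd V₀ v₀
  haveI : CompactSpace (Sc U) := inferInstance
  obtain ⟨k, φ, V', e, μ, hμ, hz⟩ := Stage.exists_stage hc U (i ≫ g₀)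
  refine ⟨k, φ, V', e, (Abelian.factorThruImage ((EtCoh.push (c.π.app k)).map g)).hom.app (op V')
    (J.obj.map (μ ≫ i).op b), ?_, ?_⟩
  · refine Set.mem_of_eq_of_mem ?_ (hz v)
    exact congrArg (ρ φ U).base (hv₀.symm.trans (congrArg (Hl g₀).base hv.symm))
  · have e1 : (Abelian.factorThruImage ((EtCoh.push (c.π.app k)).map g)).hom.app (op V') ≫
        (Abelian.image.ι ((EtCoh.push (c.π.app k)).map g)).hom.app (op V') =
        g.hom.app (op ((EtCoh.bc (c.π.app k)).obj V')) :=
      congrArg (fun m => m.hom.app (op V')) (Abelian.image.fac ((EtCoh.push (c.π.app k)).map g))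
    refine ((ConcreteCategory.comp_apply _ _ _).symm.trans
      (congrArg (fun m : J.obj.obj (op ((EtCoh.bc (c.π.app k)).obj V')) ⟶
        Q.obj.obj (op ((EtCoh.bc (c.π.app k)).obj V')) => (ConcreteCategory.hom m) _) e1)).trans ?_
    refine (NatTrans.naturality_apply g.hom (μ ≫ i).op b).trans ?_
    refine (congrArg (Q.obj.map (μ ≫ i).op) hb).trans ?_
    refine (ConcreteCategory.comp_apply _ _ t).symm.trans ?_
    have e2 : Q.obj.map g₀.op ≫ Q.obj.map (μ ≫ i).op = Q.obj.map ((EtCoh.bc (c.π.app k)).map e ≫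
        (θ (D.map φ) (c.π.app k) (c.w φ) U).inv).op :=
      (Q.obj.map_comp _ _).symm.trans (congrArg (fun m => Q.obj.map (Quiver.Hom.op m))
        ((Category.assoc _ _ _).trans hμ))
    exact congrArg (fun m : Q.obj.obj (op ((EtCoh.bc (c.π.app j)).obj U)) ⟶
      Q.obj.obj (op ((EtCoh.bc (c.π.app k)).obj V')) => (ConcreteCategory.hom m) t) e2

include hc in
theorem succ (n : ℕ) (h : Cont c n) : Cont c (n + 1) := by
  intro F
  have hS := CohColim.emb_shortExact F
  let J := Injective.under F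
  let g : J ⟶ cokernel (Injective.ι F) := cokernel.π (Injective.ι F)
  haveI : Epi g := coequalizer.π_epi
  let C := imSystem (isHom_push c g)
  have hι : IsTarget C c _ _ := IsHom.isTarget (isHom_image_ι (isHom_push c g))
  obtain ⟨hs, hi⟩ := of_push c C _ _ hι (fun j => inferInstanceAs (Mono (kernel.ι _)))
    (fun j U hU t => ss_image hc g j U hU t) n (h _).1 (h _).2
  exact shift c (isHom_push c (Injective.ι F)) (isHom_factor (isHom_push c g)) _
    (fun j => stageSeq_shortExact c (Injective.ι F) g (cokernel.condition _) hS j)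
    (fun j => haveI : (EtCoh.pull (c.π.app j)).PreservesMonomorphisms := inferInstance
      (EtCoh.pullPushAdj (c.π.app j)).map_injective _ inferInstance)
    hS (isTarget_pushSystem c J) hι
    (fun j => (Category.id_comp _).trans (Category.comp_id _).symm)
    (fun j => (Category.id_comp _).trans (Abelian.image.fac _).symm) n (h J).1 hs hi

include hc in
/-- Cohomology of the limit is the colimit of the cohomology of the stages. -/
theorem cont (n : ℕ) : Cont c n := by
  induction n with
  | zero => exact zero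
  | succ n ih => exact succ hc n ih

end Groth.Agent.Lib.Cont50.Push
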