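import Groth.Agent.Lib.Cont50.Germs
import Groth.Agent.Lib.Cont50.Push

/-!
# A colimit of inverse images: sections and stages
-/

universe u

open CategoryTheory CategoryTheory.Limits AlgebraicGeometry Opposite TopologicalSpace

set_option backward.isDefEq.respectTransparency false
set_option linter.style.haveILetI false
set_option linter.unusedSectionVars false

noncomputable section

namespace Groth.Agent.Lib.Cont50.Colim

open Groth.Agent.H61 Groth.Agent.Lib.EtSite Sys Local Cohom Germs Groth.Agent.H88.EtMod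

section adj

variable {X Y : Scheme.{u}} (f : X ⟶ Y) {Z : Scheme.{u}} {g : Z ⟶ X} {w₀ : Z ⟶ Y}

/-- An equation of inverse images gives one of direct images. -/
theorem of_adj (w : g ≫ f = w₀) {G : EtCoh.Ab Y} {F : EtCoh.Ab X} {E : EtCoh.Ab Z}
    {a : G ⟶ (EtCoh.push f).obj F} {b : F ⟶ (EtCoh.push g).obj E}
    {c : G ⟶ (EtCoh.push w₀).obj E}
    (h : (EtCoh.pull g).map (((EtCoh.pullPushAdj f).homEquiv _ _).symm a) ≫
        ((EtCoh.pullPushAdj g).homEquiv _ _).symm b =
      ((EtCore.pullComp g f).symm ≪≫ EtCore.pullCongr w).hom.app G ≫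
        ((EtCoh.pullPushAdj w₀).homEquiv _ _).symm c) :
    a ≫ (EtCoh.push f).map b ≫ (P2 f g w).hom.app E = c := by
  have h1 := congrArg ((EtCoh.pullPushAdj g).homEquiv _ _) h
  rw [Adjunction.homEquiv_naturality_left, Equiv.apply_symm_apply] at h1
  have h2 := congrArg ((EtCoh.pullPushAdj f).homEquiv _ _) h1
  rw [Adjunction.homEquiv_naturality_right, Equiv.apply_symm_apply] at h2
  rw [← Category.assoc, h2]
  refine (HpullFunct.homEquiv_pullVia w _).trans ?_
  rw [Equiv.apply_symm_apply]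

/-- Pushed down form of a cocycle condition. -/
theorem of_cocycle (w : g ≫ f = w₀) {G : EtCoh.Ab Y} {F : EtCoh.Ab X} {E : EtCoh.Ab Z}
    (α : (EtCoh.pull f).obj G ⟶ F) (β : (EtCoh.pull g).obj F ⟶ E) (γ : (EtCoh.pull w₀).obj G ⟶ E)
    (h : γ = (EtCore.pullCongr w.symm ≪≫ EtCore.pullComp g f).hom.app G ≫ (EtCoh.pull g).map α ≫ β) :
    (EtCoh.pullPushAdj f).homEquiv _ _ α ≫
        (EtCoh.push f).map ((EtCoh.pullPushAdj g).homEquiv _ _ β) ≫ (P2 f g w).hom.app E =
      (EtCoh.pullPushAdj w₀).homEquiv _ _ γ := by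
  refine of_adj f w ?_
  rw [Equiv.symm_apply_apply, Equiv.symm_apply_apply, Equiv.symm_apply_apply, h]
  subst w
  simp [EtCore.pullCongr]

end adj

variable {I : Type u} [SmallCategory I] [Quiver.IsThin I] [IsCofiltered I] {D : I ⥤ Scheme.{u}}
  [∀ {i j : I} (f : i ⟶ j), IsAffineHom (D.map f)] [∀ j, CompactSpace (D.obj j)]
  [∀ j, QuasiSeparatedSpace (D.obj j)] {c : Cone D} (hc : IsLimit c) (S : System D)
  (G : Iᵒᵖ ⥤ EtCoh.Ab c.pt) (ψ : ∀ j, (EtCoh.pull (c.π.app j)).obj (S.G j) ≅ G.obj (op j))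

/-- The map of a stage to the direct image of the corresponding term. -/
def b (j : I) : S.G j ⟶ (EtCoh.push (c.π.app j)).obj (G.obj (op j)) :=
  (EtCoh.pullPushAdj (c.π.app j)).homEquiv _ _ (ψ j).hom

/-- The map of a stage to the direct image of the colimit. -/
def a (j : I) : S.G j ⟶ (EtCoh.push (c.π.app j)).obj (colimit G) :=
  b S G ψ j ≫ (EtCoh.push (c.π.app j)).map (colimit.ι G (op j))

theorem b_app (j : I) (P : (D.obj j).Etale) (s : (S.G j).obj.obj (op P)) :
    (b S G ψ j).hom.app (op P) s =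
      (ψ j).hom.hom.app (op ((EtCoh.bc (c.π.app j)).obj P)) (η (c.π.app j) (S.G j) P s) := by
  rw [b, Adjunction.homEquiv_unit]
  rfl

theorem a_app (j : I) (P : (D.obj j).Etale) (s : (S.G j).obj.obj (op P)) :
    (a S G ψ j).hom.app (op P) s =
      (colimit.ι G (op j)).hom.app (op ((EtCoh.bc (c.π.app j)).obj P)) ((b S G ψ j).hom.app (op P) s) :=
  rfl

variable (hb : ∀ {k j : I} (φ : k ⟶ j), S.t φ ≫ (EtCoh.push (D.map φ)).map (b S G ψ k) ≫
    (P2 (D.map φ) (c.π.app k) (c.w φ)).hom.app (G.obj (op k)) =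
      b S G ψ j ≫ (EtCoh.push (c.π.app j)).map (G.map φ.op))

include hb in
theorem isTarget_a : IsTarget S c (colimit G) (a S G ψ) := by
  intro k j φ
  have h := congrArg (· ≫ (EtCoh.push (c.π.app j)).map (colimit.ι G (op k))) (hb φ)
  simp only [Category.assoc, ← Functor.map_comp, colimit.w] at h
  refine Eq.trans ?_ h
  refine _ ≫= ?_
  simp only [a, Functor.map_comp, Category.assoc]
  exact _ ≫= (P2 (D.map φ) (c.π.app k) (c.w φ)).hom.naturality (colimit.ι G (op k))

include hb in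
theorem b_tr {k j : I} (φ : k ⟶ j) (U : (D.obj j).Etale) (s : (S.G j).obj.obj (op U)) :
    (G.obj (op k)).obj.map (θ (D.map φ) (c.π.app k) (c.w φ) U).hom.op
        ((b S G ψ k).hom.app (op _) (tr S φ U s)) =
      (G.map φ.op).hom.app (op ((EtCoh.bc (c.π.app j)).obj U)) ((b S G ψ j).hom.app (op U) s) := by
  have h := congrArg (fun m => (ConcreteCategory.hom (m.hom.app (op U))) s) (hb φ)
  refine Eq.trans ?_ h
  exact (congrArg (fun m : (G.obj (op k)).obj.obj (op ((EtCoh.bc (c.π.app k)).obj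
      ((EtCoh.bc (D.map φ)).obj U))) ⟶ (G.obj (op k)).obj.obj (op ((EtCoh.bc (c.π.app j)).obj U)) =>
    (ConcreteCategory.hom m) ((b S G ψ k).hom.app (op _) (tr S φ U s)))
    (θ_app (D.map φ) (c.π.app k) (c.w φ) U (G.obj (op k)))).symm

include hb in
theorem a_tr {k j : I} (φ : k ⟶ j) (U : (D.obj j).Etale) (s : (S.G j).obj.obj (op U)) :
    (colimit G).obj.map (θ (D.map φ) (c.π.app k) (c.w φ) U).hom.op
        ((a S G ψ k).hom.app (op _) (tr S φ U s)) = (a S G ψ j).hom.app (op U) s := by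
  have h := congrArg (fun m => (ConcreteCategory.hom (m.hom.app (op U))) s) (isTarget_a S G ψ hb φ)
  refine Eq.trans ?_ h
  exact (congrArg (fun m : (colimit G).obj.obj (op ((EtCoh.bc (c.π.app k)).obj
      ((EtCoh.bc (D.map φ)).obj U))) ⟶ (colimit G).obj.obj (op ((EtCoh.bc (c.π.app j)).obj U)) =>
    (ConcreteCategory.hom m) ((a S G ψ k).hom.app (op _) (tr S φ U s)))
    (θ_app (D.map φ) (c.π.app k) (c.w φ) U (colimit G))).symm

/-- Sections of the colimit over an affine object. -/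
theorem colimit_sections (W : c.pt.Etale) (hW : IsAffine (Sc W)) :
    (∀ x : (colimit G).obj.obj (op W), ∃ (i : Iᵒᵖ) (y : (G.obj i).obj.obj (op W)),
      (colimit.ι G i).hom.app (op W) y = x) ∧
    ∀ (i : Iᵒᵖ) (y : (G.obj i).obj.obj (op W)), (colimit.ι G i).hom.app (op W) y = 0 →
      ∃ (k : Iᵒᵖ) (h : i ⟶ k), (G.map h).hom.app (op W) y = 0 := by
  haveI : CompactSpace W.left := inferInstanceAs (CompactSpace (Sc W))
  haveI : QuasiSeparatedSpace W.left := inferInstanceAs (QuasiSeparatedSpace (Sc W))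
  haveI : PreservesFilteredColimitsOfSize.{u, u} (forget AddCommGrpCat.{u + 1}) :=
    preservesFilteredColimitsOfSize_of_univLE.{u + 1, u + 1, u, u} _
  haveI : HasColimitsOfShape Iᵒᵖ AddCommGrpCat.{u + 1} := inferInstance
  haveI := FilteredSections.preservesColimits (I := Iᵒᵖ) (A := AddCommGrpCat.{u + 1}) W
  have h := isColimitOfPreserves (sheafToPresheaf c.pt.smallEtaleTopology AddCommGrpCat.{u + 1} ⋙
    (evaluation _ _).obj (op W)) (colimit.isColimit G)
  refine ⟨fun x => Concrete.isColimit_exists_rep _ h x, fun i y hy => ?_⟩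
  obtain ⟨k, f, g, hfg⟩ := (Concrete.isColimit_rep_eq_iff_exists _ h y (0 : (G.obj i).obj.obj (op W))).1
    (hy.trans (map_zero _).symm)
  exact ⟨k, f, hfg.trans (map_zero _)⟩

include hc hb in
/-- A section dying in the colimit dies at a stage. -/
theorem si (j : I) (U : (D.obj j).Etale) (hU : IsAffine (Sc U)) (s : (S.G j).obj.obj (op U))
    (hs : (a S G ψ j).hom.app (op U) s = 0) : ∃ (k : I) (φ : k ⟶ j), tr S φ U s = 0 := by
  haveI : CompactSpace (Sc U) := inferInstance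
  refine dies S hc S.G (fun i => 𝟙 _) (fun {k i} φ V s h => ?_) U s fun z => ?_
  · have h' : s = 0 := h
    exact (congrArg (tr S φ V) h').trans (map_zero (tr S φ V))
  obtain ⟨W, g, hW, w, hw⟩ := exists_affine_nhd ((EtCoh.bc (c.π.app j)).obj U) z
  let y := (G.obj (op j)).obj.map g.op ((b S G ψ j).hom.app (op U) s)
  have hy : (colimit.ι G (op j)).hom.app (op W) y = 0 := by
    refine (NatTrans.naturality_apply (colimit.ι G (op j)).hom g.op _).trans ?_
    exact (congrArg _ hs).trans (map_zero _)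
  obtain ⟨⟨k⟩, φ', hφ⟩ := (colimit_sections G W hW).2 (op j) y hy
  let φ : k ⟶ j := φ'.unop
  let h₂ := g ≫ (θ (D.map φ) (c.π.app k) (c.w φ) U).hom
  have hη : ((EtCoh.pull (c.π.app k)).obj (S.G k)).obj.map h₂.op
      (η (c.π.app k) (S.G k) _ (tr S φ U s)) = 0 := by
    have h1 : (G.obj (op k)).obj.map h₂.op ((b S G ψ k).hom.app (op _) (tr S φ U s)) = 0 := by
      refine Eq.trans ?_ hφ
      refine Eq.trans ?_ (NatTrans.naturality_apply (G.map φ.op).hom g.op
        ((b S G ψ j).hom.app (op U) s)).symm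
      rw [← b_tr S G ψ hb φ U s, ← ConcreteCategory.comp_apply, ← Functor.map_comp]
      rfl
    have h2 := congrArg ((ψ k).inv.hom.app (op W)) h1
    rw [map_zero] at h2
    refine Eq.trans ?_ h2
    rw [b_app]
    refine Eq.trans ?_ (NatTrans.naturality_apply (ψ k).inv.hom h₂.op _).symm
    exact congrArg _ ((ConcreteCategory.comp_apply _ _ _).symm.trans
      (congrArg (fun m => (ConcreteCategory.hom (m.hom.app (op _))) (η (c.π.app k) (S.G k) _ (tr S φ U s)))
        (ψ k).hom_inv_id)).symm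
  obtain ⟨V, e, he, v, hv⟩ := exists_zero (c.π.app k) (S.G k) _ (tr S φ U s) h₂ hη w
  refine ⟨k, φ, V, e, ⟨v, hv.trans ?_⟩, he⟩
  refine Eq.trans ?_ (congrArg (ρ φ U).base hw)
  exact congr($(Stage.θ_fst_ρ φ U) ((Hl g).base w))

include hc hb in
/-- Sections of the colimit come from stages locally. -/
theorem local_lift (j : I) (U : (D.obj j).Etale) (hU : IsAffine (Sc U))
    (t : (colimit G).obj.obj (op ((EtCoh.bc (c.π.app j)).obj U)))
    (z : Sc ((EtCoh.bc (c.π.app j)).obj U)) :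
    ∃ (k : I) (φ : k ⟶ j) (V : (D.obj k).Etale) (e : V ⟶ (EtCoh.bc (D.map φ)).obj U)
      (y : (S.G k).obj.obj (op V)),
      (ρ φ U).base z ∈ Set.range (Hl e).base ∧
        (a S G ψ k).hom.app (op V) y = (colimit G).obj.map ((EtCoh.bc (c.π.app k)).map e ≫
          (θ (D.map φ) (c.π.app k) (c.w φ) U).inv).op t := by
  obtain ⟨W, g, hW, w, hw⟩ := exists_affine_nhd ((EtCoh.bc (c.π.app j)).obj U) z
  obtain ⟨⟨i⟩, ti, hti⟩ := (colimit_sections G W hW).1 ((colimit G).obj.map g.op t)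
  obtain ⟨P, y, W', h₁, h₂, hP, hW', ⟨w', hw'⟩, heq⟩ :=
    exists_unit (c.π.app i) (S.G i) ((ψ i).inv.hom.app (op W) ti) w
  have ha : (colimit G).obj.map h₂.op ((a S G ψ i).hom.app (op P) y) =
      (colimit G).obj.map (h₁ ≫ g).op t := by
    rw [a_app, b_app]
    refine (NatTrans.naturality_apply (colimit.ι G (op i)).hom h₂.op _).symm.trans ?_
    refine (congrArg _ (NatTrans.naturality_apply (ψ i).hom.hom h₂.op _).symm).trans ?_
    rw [heq, NatTrans.naturality_apply, NatTrans.naturality_apply]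
    have h3 : (ψ i).hom.hom.app (op W) ((ψ i).inv.hom.app (op W) ti) = ti :=
      (ConcreteCategory.comp_apply _ _ _).symm.trans
        (congrArg (fun m => (ConcreteCategory.hom (m.hom.app (op W))) ti) (ψ i).inv_hom_id)
    rw [h3, hti, op_comp, Functor.map_comp, ConcreteCategory.comp_apply]
  let k₀ := IsCofiltered.min j i
  let φ₀ : k₀ ⟶ j := IsCofiltered.minToLeft j i
  let φ₁ : k₀ ⟶ i := IsCofiltered.minToRight j i
  let U₀ := (EtCoh.bc (D.map φ₀)).obj U
  let P₀ := (EtCoh.bc (D.map φ₁)).obj P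
  haveI : CompactSpace ((𝟭 Scheme.{u}).obj U.left) := inferInstanceAs (CompactSpace (Sc U))
  haveI : CompactSpace ((𝟭 Scheme.{u}).obj P.left) := inferInstanceAs (CompactSpace (Sc P))
  haveI : QuasiSeparatedSpace ((𝟭 Scheme.{u}).obj U.left) :=
    inferInstanceAs (QuasiSeparatedSpace (Sc U))
  haveI : QuasiSeparatedSpace ((𝟭 Scheme.{u}).obj P.left) :=
    inferInstanceAs (QuasiSeparatedSpace (Sc P))
  haveI : CompactSpace (Sc U₀) := Lim.Basic.compactSpace_bcDiagram D U.hom (Over.mk φ₀)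
  haveI : CompactSpace (Sc P₀) := Lim.Basic.compactSpace_bcDiagram D P.hom (Over.mk φ₁)
  haveI : QuasiSeparatedSpace (Sc U₀) :=
    Lim.Basic.quasiSeparatedSpace_bcDiagram D U.hom (Over.mk φ₀)
  haveI : QuasiSeparatedSpace (Sc P₀) :=
    Lim.Basic.quasiSeparatedSpace_bcDiagram D P.hom (Over.mk φ₁)
  let pP : Sc P₀ ⟶ D.obj k₀ := P₀.hom
  let pU : Sc U₀ ⟶ D.obj k₀ := U₀.hom
  haveI : Etale pP := P₀.prop
  haveI : Etale pU := U₀.prop
  let q₁ : pullback pP pU ⟶ Sc P₀ := pullback.fst pP pU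
  let q₂ : pullback pP pU ⟶ Sc U₀ := pullback.snd pP pU
  haveI : Etale q₁ := inferInstanceAs (Etale (pullback.fst pP pU))
  let V₀ : (D.obj k₀).Etale := Scheme.Etale.mk (q₁ ≫ pP)
  let prP : V₀ ⟶ P₀ := MorphismProperty.Over.homMk q₁ rfl
  let prU : V₀ ⟶ U₀ := MorphismProperty.Over.homMk q₂ pullback.condition.symm
  haveI : QuasiCompact pU := quasiCompact_of_compactSpace pU
  haveI : QuasiSeparated pU := QuasiSeparated.of_comp pU (terminal.from _)
  haveI : QuasiCompact q₁ := inferInstanceAs (QuasiCompact (pullback.fst pP pU))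
  haveI : QuasiSeparated q₁ := inferInstanceAs (QuasiSeparated (pullback.fst pP pU))
  haveI : CompactSpace (Sc V₀) := QuasiCompact.compactSpace_of_compactSpace q₁
  haveI : QuasiSeparatedSpace (Sc V₀) := quasiSeparatedSpace_of_quasiSeparated q₁
  let xP := h₂ ≫ (θ (D.map φ₁) (c.π.app k₀) (c.w φ₁) P).hom
  let xU := h₁ ≫ g ≫ (θ (D.map φ₀) (c.π.app k₀) (c.w φ₀) U).hom
  let lP : Sc W' ⟶ Sc P₀ := Hl xP ≫ pullback.fst P₀.hom (c.π.app k₀)
  let lU : Sc W' ⟶ Sc U₀ := Hl xU ≫ pullback.fst U₀.hom (c.π.app k₀)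
  have hlP : lP ≫ pP = W'.hom ≫ c.π.app k₀ :=
    (Category.assoc _ _ _).trans ((_ ≫= pullback.condition).trans
      ((Category.assoc _ _ _).symm.trans (congrArg (· ≫ _) (Over.w xP.hom))))
  have hlU : lU ≫ pU = W'.hom ≫ c.π.app k₀ :=
    (Category.assoc _ _ _).trans ((_ ≫= pullback.condition).trans
      ((Category.assoc _ _ _).symm.trans (congrArg (· ≫ _) (Over.w xU.hom))))
  let l : Sc W' ⟶ Sc V₀ := pullback.lift lP lU (hlP.trans hlU.symm)
  have hl : l ≫ q₁ ≫ pP = W'.hom ≫ c.π.app k₀ :=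
    (Category.assoc _ _ _).symm.trans ((congrArg (· ≫ pP) (pullback.lift_fst _ _ _)).trans hlP)
  let gV : W' ⟶ (EtCoh.bc (c.π.app k₀)).obj V₀ :=
    MorphismProperty.Over.homMk (pullback.lift (f := V₀.hom) (g := c.π.app k₀) l W'.hom hl)
      (pullback.lift_snd _ _ _)
  have hgP : gV ≫ (EtCoh.bc (c.π.app k₀)).map prP = xP := by
    refine ext_fst _ ?_
    refine (Category.assoc _ _ _).trans ((_ ≫= bc_map_fst _ prP).trans ?_)
    refine (Category.assoc _ _ _).symm.trans ((congrArg (· ≫ q₁) (pullback.lift_fst _ _ _)).trans ?_)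
    exact pullback.lift_fst _ _ _
  have hgU : gV ≫ (EtCoh.bc (c.π.app k₀)).map prU = xU := by
    refine ext_fst _ ?_
    refine (Category.assoc _ _ _).trans ((_ ≫= bc_map_fst _ prU).trans ?_)
    refine (Category.assoc _ _ _).symm.trans ((congrArg (· ≫ q₂) (pullback.lift_fst _ _ _)).trans ?_)
    exact pullback.lift_snd _ _ _
  haveI : CompactSpace (Sc W') := inferInstance
  obtain ⟨k, ω, V, e, μ, hμ, hz⟩ := Stage.exists_stage hc V₀ gV
  let φ := ω ≫ φ₀
  let χ := ω ≫ φ₁
  let eU := e ≫ (EtCoh.bc (D.map ω)).map prU ≫ (θ (D.map φ₀) (D.map ω) (map_map ω φ₀ φ) U).inv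
  let eP := e ≫ (EtCoh.bc (D.map ω)).map prP ≫ (θ (D.map φ₁) (D.map ω) (map_map ω φ₁ χ) P).inv
  have key : ∀ {j' : I} (φ' : k₀ ⟶ j') (χ' : k ⟶ j') (R : (D.obj j').Etale)
      (pr : V₀ ⟶ (EtCoh.bc (D.map φ')).obj R) (x : W' ⟶ (EtCoh.bc (c.π.app j')).obj R),
      gV ≫ (EtCoh.bc (c.π.app k₀)).map pr = x ≫ (θ (D.map φ') (c.π.app k₀) (c.w φ') R).hom →
      (EtCoh.bc (c.π.app k)).map (e ≫ (EtCoh.bc (D.map ω)).map pr ≫
        (θ (D.map φ') (D.map ω) (map_map ω φ' χ') R).inv) ≫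
          (θ (D.map χ') (c.π.app k) (c.w χ') R).inv = μ ≫ x := by
    intro j' φ' χ' R pr x hx
    refine ext_fst _ ?_
    have hμ' : Hl μ ≫ (Hl gV ≫ pullback.fst V₀.hom (c.π.app k₀)) =
        pullback.fst V.hom (c.π.app k) ≫ Hl e ≫ pullback.fst V₀.hom (D.map ω) := by
      refine (Category.assoc _ _ _).symm.trans ?_
      refine (congrArg (fun m => Hl m ≫ pullback.fst V₀.hom (c.π.app k₀)) hμ).trans ?_
      refine (Category.assoc _ _ _).trans ((_ ≫= θinv_fst _ _ (c.w ω) V₀).trans ?_)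
      exact (Category.assoc _ _ _).symm.trans ((congrArg (· ≫ _) (bc_map_fst _ e)).trans
        (Category.assoc _ _ _))
    have hx' : Hl x ≫ pullback.fst R.hom (c.π.app j') =
        (Hl gV ≫ pullback.fst V₀.hom (c.π.app k₀)) ≫ Hl pr ≫ pullback.fst R.hom (D.map φ') := by
      have h1 := congrArg (fun m => Hl m ≫ (pullback.fst ((EtCoh.bc (D.map φ')).obj R).hom
        (c.π.app k₀) ≫ pullback.fst R.hom (D.map φ'))) hx
      refine Eq.trans ?_ (h1.symm.trans ?_)
      · exact (_ ≫= (θ_fst (D.map φ') (c.π.app k₀) (c.w φ') R).symm).trans (Category.assoc _ _ _).symm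
      · refine (Category.assoc _ _ _).trans ((_ ≫= ((Category.assoc _ _ _).symm.trans
          (congrArg (· ≫ _) (bc_map_fst _ pr)))).trans ?_)
        simp only [Category.assoc]
    refine Eq.trans ?_ ((_ ≫= hx').symm.trans (Category.assoc _ _ _).symm)
    refine Eq.trans ?_ ((congrArg (· ≫ Hl pr ≫ pullback.fst R.hom (D.map φ')) hμ'.symm).trans
      (Category.assoc _ _ _))
    refine (Category.assoc _ _ _).trans ((_ ≫= θinv_fst _ _ (c.w χ') R).trans ?_)
    refine (Category.assoc _ _ _).symm.trans ((congrArg (· ≫ _) (bc_map_fst _ _)).trans ?_)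
    have h2 : Hl ((EtCoh.bc (D.map ω)).map pr ≫ (θ (D.map φ') (D.map ω) (map_map ω φ' χ') R).inv) ≫
        pullback.fst R.hom (D.map χ') =
        pullback.fst V₀.hom (D.map ω) ≫ Hl pr ≫ pullback.fst R.hom (D.map φ') :=
      (Category.assoc _ _ _).trans ((_ ≫= θinv_fst _ _ (map_map ω φ' χ') R).trans
        ((Category.assoc _ _ _).symm.trans ((congrArg (· ≫ _) (bc_map_fst _ pr)).trans
          (Category.assoc _ _ _))))
    refine (Category.assoc _ _ _).trans ((_ ≫= ((Category.assoc _ _ _).trans (_ ≫= h2))).trans ?_)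
    simp only [Category.assoc]
  have kU := key φ₀ φ U prU (h₁ ≫ g) (hgU.trans (Category.assoc _ _ _).symm)
  have kP := key φ₁ χ P prP h₂ hgP
  refine ⟨k, φ, V, eU, (S.G k).obj.map eP.op (tr S χ P y), ?_, ?_⟩
  · obtain ⟨v, hv⟩ := hz w'
    refine ⟨v, ?_⟩
    have e1 : ρ ω V₀ ≫ Hl ((EtCoh.bc (D.map ω)).map prU ≫
        (θ (D.map φ₀) (D.map ω) (map_map ω φ₀ φ) U).inv) =
      Hl ((EtCoh.bc (c.π.app k₀)).map prU ≫ (θ (D.map φ₀) (c.π.app k₀) (c.w φ₀) U).inv) ≫
        ρ φ U := by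
      refine pullback.hom_ext ?_ ?_
      · refine (Category.assoc _ _ _).trans (Eq.trans ?_ (((Category.assoc _ _ _).trans
          (_ ≫= ρ_fst φ U)).symm))
        refine (_ ≫= ((Category.assoc _ _ _).trans ((_ ≫= θinv_fst _ _ (map_map ω φ₀ φ) U).trans
          ((Category.assoc _ _ _).symm.trans ((congrArg (· ≫ _) (bc_map_fst _ prU)).trans
            (Category.assoc _ _ _)))))).trans ?_
        refine ((Category.assoc _ _ _).symm.trans (congrArg (· ≫ _) (ρ_fst ω V₀))).trans ?_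
        exact (((Category.assoc _ _ _).trans ((_ ≫= θinv_fst _ _ (c.w φ₀) U).trans
          ((Category.assoc _ _ _).symm.trans ((congrArg (· ≫ _) (bc_map_fst _ prU)).trans
            (Category.assoc _ _ _))))).symm)
      · refine (Category.assoc _ _ _).trans ((_ ≫= (Over.w ((EtCoh.bc (D.map ω)).map prU ≫
          (θ (D.map φ₀) (D.map ω) (map_map ω φ₀ φ) U).inv).hom :)).trans ?_)
        refine (ρ_snd ω V₀).trans (Eq.trans ?_ (((Category.assoc _ _ _).trans
          (_ ≫= ρ_snd φ U)).symm))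
        exact ((congrArg (· ≫ c.π.app k) (Over.w ((EtCoh.bc (c.π.app k₀)).map prU ≫
          (θ (D.map φ₀) (c.π.app k₀) (c.w φ₀) U).inv).hom)).symm.trans (Category.assoc _ _ _))
    refine (congrArg (Hl ((EtCoh.bc (D.map ω)).map prU ≫
      (θ (D.map φ₀) (D.map ω) (map_map ω φ₀ φ) U).inv)).base hv).trans ?_
    refine (congr($e1 ((Hl gV).base w'))).trans (congrArg (ρ φ U).base ?_)
    have e2 : gV ≫ (EtCoh.bc (c.π.app k₀)).map prU ≫
        (θ (D.map φ₀) (c.π.app k₀) (c.w φ₀) U).inv = h₁ ≫ g := by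
      rw [← Category.assoc, hgU, Category.assoc, Category.assoc, Iso.hom_inv_id, Category.comp_id]
    exact (congr($(congrArg Hl e2) w')).trans ((congrArg (Hl g).base hw').trans hw)
  · refine (NatTrans.naturality_apply (a S G ψ k).hom eP.op _).trans ?_
    have h4 : (a S G ψ k).hom.app (op _) (tr S χ P y) =
        (colimit G).obj.map (θ (D.map χ) (c.π.app k) (c.w χ) P).inv.op
          ((a S G ψ i).hom.app (op P) y) := by
      rw [← a_tr S G ψ hb χ P y]
      let θ' := θ (D.map χ) (c.π.app k) (c.w χ) P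
      let A : (colimit G).obj.obj (op ((EtCoh.bc (c.π.app k)).obj ((EtCoh.bc (D.map χ)).obj P))) :=
        (a S G ψ k).hom.app (op _) (tr S χ P y)
      have h5 : (colimit G).obj.map θ'.hom.op ≫ (colimit G).obj.map θ'.inv.op = 𝟙 _ :=
        ((colimit G).obj.map_comp _ _).symm.trans ((congrArg (colimit G).obj.map
          ((congrArg Quiver.Hom.op θ'.inv_hom_id).trans op_id)).trans ((colimit G).obj.map_id _))
      exact ((ConcreteCategory.comp_apply _ _ A).symm.trans
        (congrArg (fun m => (ConcreteCategory.hom m) A) h5)).symm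
    refine (congrArg _ h4).trans ?_
    refine ((ConcreteCategory.comp_apply _ _ _).symm.trans
      (congrArg (fun m : (colimit G).obj.obj (op ((EtCoh.bc (c.π.app i)).obj P)) ⟶
        (colimit G).obj.obj (op ((EtCoh.bc (c.π.app k)).obj V)) =>
          (ConcreteCategory.hom m) ((a S G ψ i).hom.app (op P) y))
        (((colimit G).obj.map_comp _ _).symm.trans
          (congrArg (fun m => (colimit G).obj.map (Quiver.Hom.op m)) kP)))).trans ?_
    change (colimit G).obj.map (μ ≫ h₂).op _ = (colimit G).obj.map _ t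
    rw [kU, op_comp, Functor.map_comp, ConcreteCategory.comp_apply, ha, ← ConcreteCategory.comp_apply,
      ← Functor.map_comp, ← op_comp]

end Groth.Agent.Lib.Cont50.Colim
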