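import Groth.Agent.Lib.Cont50.Colim

/-!
# Cohomology of a limit with coefficients in a colimit of inverse images
-/

universe u

open CategoryTheory CategoryTheory.Limits AlgebraicGeometry Opposite CategoryTheory.Abelian

set_option backward.isDefEq.respectTransparency false
set_option linter.style.haveILetI false
set_option linter.unusedSectionVars false

noncomputable section

namespace Groth.Agent.Lib.Cont50.General

open Groth.Agent.Lib.EtSite Sys Local Cohom Shift Groth.Agent.Lib.SiteCoh.CechAcyclic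

variable {I : Type u} [SmallCategory I] [Quiver.IsThin I] [IsCofiltered I] {D : I ⥤ Scheme.{u}}
  {c : Cone D} [∀ {k j : I} (φ : k ⟶ j), PreservesFiniteLimits (EtCoh.pull (D.map φ))]
  [∀ j, PreservesFiniteLimits (EtCoh.pull (c.π.app j))]
  [∀ j, CompactSpace (D.obj j)] [∀ j, QuasiSeparatedSpace (D.obj j)]

/-- A system factors through a subsystem of direct images with kernel dying locally. -/
theorem compare {K S C : System D} {ι : ∀ j, K.G j ⟶ S.G j} {p : ∀ j, S.G j ⟶ C.G j}
    (hι : IsHom K S ι) (hp : IsHom S C p) (wj : ∀ j, ι j ≫ p j = 0)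
    (hse : ∀ j, (ShortComplex.mk (ι j) (p j) (wj j)).ShortExact)
    (hK : ∀ (j : I) (n : ℕ) (x : EtCoh.H (D.obj j) (K.G j) n),
      ∃ (k : I) (φ : k ⟶ j), T K φ n x = 0)
    {M : EtCoh.Ab c.pt} {a : ∀ j, S.G j ⟶ (EtCoh.push (c.π.app j)).obj M}
    {aC : ∀ j, C.G j ⟶ (EtCoh.push (c.π.app j)).obj M} (hC' : IsTarget C c M aC)
    (hac : ∀ j, p j ≫ aC j = a j)
    (n : ℕ) (hs : SysSurj c C M aC n) (hi : SysInj c C M aC n) :
    SysSurj c S M a n ∧ SysInj c S M a n := by
  refine ⟨fun x => ?_, fun j y hy => ?_⟩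
  · obtain ⟨j, z, rfl⟩ := hs x
    obtain ⟨k, φ, hφ⟩ := hK j (n + 1) (connHom (hse j) _ n z)
    obtain ⟨y, hy⟩ := (connHom_eq_zero_iff (hse k) _ n _).1
      ((Hm_conn (D.map φ) (hse j) (hse k) (K.t φ) (S.t φ) (C.t φ) (hι φ) (hp φ) n z).symm.trans hφ)
    have hy' : Sheaf.H.map (p k) n y = T C φ n z := hy
    refine ⟨k, y, ?_⟩
    rw [← hac, ← Hm_pre, hy']
    exact H_T c hC' φ n z
  · obtain ⟨k, φ, hφ⟩ := hi j (Sheaf.H.map (p j) n y) (by rw [Hm_pre, hac]; exact hy)
    have h1 : Sheaf.H.map (p k) n (T S φ n y) = 0 := (Hm_comm (D.map φ) (hp φ) n y).trans hφ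
    obtain ⟨x, hx⟩ := Ext.covariant_sequence_exact₂ _ (hse k) (T S φ n y) h1
    have hx' : Sheaf.H.map (ι k) n x = T S φ n y := hx
    obtain ⟨l, ψ, hψ⟩ := hK k n x
    refine ⟨l, ψ ≫ φ, ?_⟩
    rw [← T_T S ψ φ (ψ ≫ φ), ← hx']
    refine (Hm_comm (D.map ψ) (hι ψ) n x).symm.trans ?_
    exact (congrArg (Sheaf.H.map (ι l) n) hψ).trans (map_zero _)

variable [∀ {i j : I} (f : i ⟶ j), IsAffineHom (D.map f)] (hc : IsLimit c) (S : System D)

include hc in
/-- A system whose sections are locally those of a sheaf on the limit. -/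
theorem of_local {M : EtCoh.Ab c.pt} (a : ∀ j, S.G j ⟶ (pushSystem c M).G j)
    (ha : IsHom S (pushSystem c M) a)
    (hsi : ∀ (j : I) (U : (D.obj j).Etale), IsAffine (Sc U) → ∀ s : (S.G j).obj.obj (op U),
      (a j).hom.app (op U) s = 0 → ∃ (k : I) (φ : k ⟶ j), tr S φ U s = 0)
    (hll : ∀ (j : I) (U : (D.obj j).Etale), IsAffine (Sc U) →
      ∀ (t : M.obj.obj (op ((EtCoh.bc (c.π.app j)).obj U)))
        (z : Sc ((EtCoh.bc (c.π.app j)).obj U)),
      ∃ (k : I) (φ : k ⟶ j) (V : (D.obj k).Etale) (e : V ⟶ (EtCoh.bc (D.map φ)).obj U)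
        (y : (S.G k).obj.obj (op V)),
        (ρ φ U).base z ∈ Set.range (Hl e).base ∧
          (a k).hom.app (op V) y = M.obj.map ((EtCoh.bc (c.π.app k)).map e ≫
            (θ (D.map φ) (c.π.app k) (c.w φ) U).inv).op t)
    (n : ℕ) : SysSurj c S M a n ∧ SysInj c S M a n := by
  have hp : IsHom S (imSystem (f := a) ha) fun j => Abelian.factorThruImage (a j) := isHom_factor (f := a) ha
  have hι : IsTarget (imSystem (f := a) ha) c M fun j => Abelian.image.ι (a j) :=
    IsHom.isTarget (isHom_image_ι (f := a) ha)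
  have hmono : ∀ j, Mono (Abelian.image.ι (a j)) := fun j => inferInstance
  have hfac : ∀ j, Abelian.factorThruImage (a j) ≫ Abelian.image.ι (a j) = a j :=
    fun j => Abelian.image.fac _
  have hw : ∀ j, kernel.ι (a j) ≫ Abelian.factorThruImage (a j) = 0 := fun j => by
    rw [← cancel_mono (Abelian.image.ι (a j)), zero_comp, Category.assoc, hfac, kernel.condition]
  have hse : ∀ j,
      (ShortComplex.mk (kernel.ι (a j)) (Abelian.factorThruImage (a j)) (hw j)).ShortExact := fun j => by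
    refine { exact := ?_, mono_f := inferInstance, epi_g := inferInstance }
    let S₀ := ShortComplex.mk (kernel.ι (a j)) (a j) (kernel.condition _)
    have he : S₀.Exact := ShortComplex.exact_of_f_is_kernel _ (kernelIsKernel (a j))
    let φT : ShortComplex.mk (kernel.ι (a j)) (Abelian.factorThruImage (a j)) (hw j) ⟶ S₀ :=
      { τ₁ := 𝟙 _, τ₂ := 𝟙 _, τ₃ := Abelian.image.ι _
        comm₁₂ := (Category.id_comp _).trans (Category.comp_id _).symm
        comm₂₃ := (Category.id_comp _).trans (hfac j).symm }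
    have : Epi φT.τ₁ := inferInstanceAs (Epi (𝟙 _))
    have : IsIso φT.τ₂ := inferInstanceAs (IsIso (𝟙 _))
    have : Mono φT.τ₃ := hmono j
    exact (ShortComplex.exact_iff_of_epi_of_isIso_of_mono φT).2 he
  have hloc : ∀ (j : I) (U : (D.obj j).Etale), IsAffine (Sc U) →
      ∀ (t : M.obj.obj (op ((EtCoh.bc (c.π.app j)).obj U)))
        (z : Sc ((EtCoh.bc (c.π.app j)).obj U)),
      ∃ (k : I) (φ : k ⟶ j) (V : (D.obj k).Etale) (e : V ⟶ (EtCoh.bc (D.map φ)).obj U)
        (y : ((imSystem (f := a) ha).G k).obj.obj (op V)),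
        (ρ φ U).base z ∈ Set.range (Hl e).base ∧
          (Abelian.image.ι (a k)).hom.app (op V) y = M.obj.map
            ((EtCoh.bc (c.π.app k)).map e ≫ (θ (D.map φ) (c.π.app k) (c.w φ) U).inv).op t := by
    intro j U hU t z
    obtain ⟨k, φ, V, e, y, hz, hy⟩ := hll j U hU t z
    refine ⟨k, φ, V, e, (Abelian.factorThruImage (a k)).hom.app (op V) y, hz, Eq.trans ?_ hy⟩
    exact (ConcreteCategory.comp_apply _ _ y).symm.trans
      (congrArg (fun m => (ConcreteCategory.hom m) y) (congrArg (fun m => m.hom.app (op V)) (hfac k)))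
  have hss := fun j U hU t =>
    Push.ss_of_local c hc (imSystem (f := a) ha) M _ hι hmono hloc j U hU t
  obtain ⟨hs, hi⟩ := of_push c (imSystem (f := a) ha) M _ hι hmono hss n
    (Push.cont (c := c) hc n _).1 (Push.cont (c := c) hc n _).2
  refine compare (isHom_ι (f := a) ha) hp hw hse (fun j m x => ?_) hι hfac n hs hi
  refine null (kerSystem (f := a) ha) (fun i U hU s => ?_) j m x
  have h0 : (a i).hom.app (op U) ((kernel.ι (a i)).hom.app (op U) s) = 0 :=
    (ConcreteCategory.comp_apply _ _ s).symm.trans ((congrArg (fun m => (ConcreteCategory.hom m) s)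
      (congrArg (fun m => m.hom.app (op U)) (kernel.condition (a i)))).trans rfl)
  obtain ⟨k, φ, hk⟩ := hsi i U hU _ h0
  refine ⟨k, φ, ?_⟩
  have hinj := (Groth.Agent.Lib.CechPsh.ShortExact.app_left_exact (hse k)
    (op ((EtCoh.bc (D.map φ)).obj U))).1
  refine hinj ((Eq.trans ?_ hk).trans (map_zero _).symm)
  exact congrArg (fun m => (ConcreteCategory.hom (m.hom.app (op U))) s) (kerT_ι (f := a) ha φ)

include hc in
/-- The same, for a target given as maps to direct images. -/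
theorem of_local' {M : EtCoh.Ab c.pt} (a : ∀ j, S.G j ⟶ (EtCoh.push (c.π.app j)).obj M)
    (ha : IsTarget S c M a)
    (hsi : ∀ (j : I) (U : (D.obj j).Etale), IsAffine (Sc U) → ∀ s : (S.G j).obj.obj (op U),
      (a j).hom.app (op U) s = 0 → ∃ (k : I) (φ : k ⟶ j), tr S φ U s = 0)
    (hll : ∀ (j : I) (U : (D.obj j).Etale), IsAffine (Sc U) →
      ∀ (t : M.obj.obj (op ((EtCoh.bc (c.π.app j)).obj U)))
        (z : Sc ((EtCoh.bc (c.π.app j)).obj U)),
      ∃ (k : I) (φ : k ⟶ j) (V : (D.obj k).Etale) (e : V ⟶ (EtCoh.bc (D.map φ)).obj U)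
        (y : (S.G k).obj.obj (op V)),
        (ρ φ U).base z ∈ Set.range (Hl e).base ∧
          (a k).hom.app (op V) y = M.obj.map ((EtCoh.bc (c.π.app k)).map e ≫
            (θ (D.map φ) (c.π.app k) (c.w φ) U).inv).op t)
    (n : ℕ) : SysSurj c S M a n ∧ SysInj c S M a n :=
  of_local hc S (M := M) a (IsTarget.isHom (a := a) ha) hsi hll n

variable (G : Iᵒᵖ ⥤ EtCoh.Ab c.pt) (ψ : ∀ j, (EtCoh.pull (c.π.app j)).obj (S.G j) ≅ G.obj (op j))
  (hb : ∀ {k j : I} (φ : k ⟶ j), S.t φ ≫ (EtCoh.push (D.map φ)).map (Colim.b S G ψ k) ≫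
    (P2 (D.map φ) (c.π.app k) (c.w φ)).hom.app (G.obj (op k)) =
      Colim.b S G ψ j ≫ (EtCoh.push (c.π.app j)).map (G.map φ.op))

include hc hb in
/-- Cohomology commutes with the limit for systems of sheaves. -/
theorem cont (n : ℕ) :
    SysSurj c S (colimit G) (Colim.a S G ψ) n ∧ SysInj c S (colimit G) (Colim.a S G ψ) n :=
  of_local' hc S (M := colimit G) (Colim.a S G ψ) (Colim.isTarget_a S G ψ hb)
    (fun j U hU => Colim.si hc S G ψ hb j U hU)
    (fun j U hU => Colim.local_lift hc S G ψ hb j U hU) n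

end Groth.Agent.Lib.Cont50.General
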