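import Groth.Agent.Lib.Cont50.Cohom
import Groth.Agent.Lib.Cont50.Stage
import Groth.Agent.Lib.EtSite.HensClosed
import Groth.Agent.Lib.EtGerm.Basic

/-!
# The unit of inverse image near a point, and elementary identities of base change
-/

universe u

open CategoryTheory CategoryTheory.Limits AlgebraicGeometry Opposite TopologicalSpace

set_option backward.isDefEq.respectTransparency false
set_option linter.style.haveILetI false
set_option linter.unusedSectionVars false

noncomputable section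

namespace Groth.Agent.Lib.Cont50.Germs

open Groth.Agent.Lib.EtSite Sys Local Cohom

variable {X Y : Scheme.{u}} (f : X ⟶ Y)

theorem bc_map_fst {U V : Y.Etale} (g : U ⟶ V) :
    Hl ((EtCoh.bc f).map g) ≫ pullback.fst V.hom f = pullback.fst U.hom f ≫ Hl g :=
  (EtCoh.isPullback_bc_map f g).w

theorem ext_fst {U : Y.Etale} {W : X.Etale} {x y : W ⟶ (EtCoh.bc f).obj U}
    (h : Hl x ≫ pullback.fst U.hom f = Hl y ≫ pullback.fst U.hom f) : x = y :=
  MorphismProperty.Over.Hom.ext (pullback.hom_ext h ((Over.w x.hom).trans (Over.w y.hom).symm :))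

theorem θinv_fst {Z : Scheme.{u}} (v : Z ⟶ X) {w₀ : Z ⟶ Y} (w : v ≫ f = w₀) (V : Y.Etale) :
    Hl (θ f v w V).inv ≫ pullback.fst V.hom w₀ =
      pullback.fst ((EtCoh.bc f).obj V).hom v ≫ pullback.fst V.hom f := by
  rw [← θ_fst f v w V]
  refine (Category.assoc _ _ _).symm.trans ((congrArg (· ≫ _) ?_).trans (Category.id_comp _))
  exact congrArg CommaMorphism.left (congrArg MorphismProperty.Comma.Hom.hom (θ f v w V).inv_hom_id)

/-- The unit on sections. -/
def η (F : EtCoh.Ab Y) (P : Y.Etale) (s : F.obj.obj (op P)) :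
    ((EtCoh.pull f).obj F).obj.obj (op ((EtCoh.bc f).obj P)) :=
  ((EtCoh.pullPushAdj f).unit.app F).hom.app (op P) s

/-- A section whose unit vanishes near a point vanishes near its image. -/
theorem exists_zero (F : EtCoh.Ab Y) (P : Y.Etale) (s : F.obj.obj (op P)) {W : X.Etale}
    (h : W ⟶ (EtCoh.bc f).obj P) (hs : ((EtCoh.pull f).obj F).obj.map h.op (η f F P s) = 0)
    (w : Sc W) :
    ∃ (V : Y.Etale) (e : V ⟶ P), F.obj.map e.op s = 0 ∧
      (pullback.fst P.hom f).base ((Hl h).base w) ∈ Set.range (Hl e).base := by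
  let ξ := Push.algPoint X (W.hom.base w)
  obtain ⟨q, hq⟩ := Basic.exists_fiber ξ W w (Push.algPoint_apply _ _ _).symm
  let q' := (Scheme.pointSmallEtale ξ).fiber.map h q
  have e1 : (Basic.fiberHom q' ≫ pullback.fst P.hom f) ≫ P.hom = ξ ≫ f :=
    (Category.assoc _ _ _).trans ((_ ≫= pullback.condition).trans
      ((Category.assoc _ _ _).symm.trans (congrArg (· ≫ f) (Basic.fiberHom_comp q'))))
  let p := Basic.mkFiber (ξ ≫ f) P (Basic.fiberHom q' ≫ pullback.fst P.hom f) e1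
  have hp : PushStalk.liftPt f (rfl : ξ ≫ f = ξ ≫ f) P p = q' := by
    apply Over.OverMorphism.ext
    exact pullback.hom_ext (pullback.lift_fst _ _ _)
      ((pullback.lift_snd _ _ _).trans (Basic.fiberHom_comp q').symm)
  have h0 : EtGerm.Basic.germ F (ξ ≫ f) P p s = EtGerm.Basic.germ F (ξ ≫ f) P p 0 := by
    rw [map_zero]
    refine (HensClosed.unitStalk_injective f ξ F).1 (Eq.trans ?_ (map_zero _).symm)
    refine (HensClosed.unitStalk_germ f ξ F P p s).trans ?_
    rw [hp]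
    refine ((EtGerm.Basic.germ_map _ ξ h q (η f F P s)).symm.trans ?_)
    rw [hs, map_zero]
  obtain ⟨V, e, he, v, hv⟩ := (EtGerm.Basic.germ_eq_iff F _ P p s 0).1 h0
  refine ⟨V, e, he.trans (map_zero _), v, hv.trans ?_⟩
  have e2 : Basic.fiberPt q' = (Hl h).base w := (Basic.fiberPt_map h q).trans (congrArg _ hq)
  exact congrArg (pullback.fst P.hom f).base e2

/-- Every section of an inverse image is near each point the unit of a section. -/
theorem exists_unit (F : EtCoh.Ab Y) {W : X.Etale} (t : ((EtCoh.pull f).obj F).obj.obj (op W))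
    (w : Sc W) :
    ∃ (P : Y.Etale) (y : F.obj.obj (op P)) (W' : X.Etale) (h₁ : W' ⟶ W)
      (h₂ : W' ⟶ (EtCoh.bc f).obj P), IsAffine (Sc P) ∧ IsAffine (Sc W') ∧
      w ∈ Set.range (Hl h₁).base ∧
      ((EtCoh.pull f).obj F).obj.map h₂.op (η f F P y) = ((EtCoh.pull f).obj F).obj.map h₁.op t := by
  let G := (EtCoh.pull f).obj F
  let ξ := Push.algPoint X (W.hom.base w)
  let Φ := Scheme.pointSmallEtale ξ
  obtain ⟨q, hq⟩ := Basic.exists_fiber ξ W w (Push.algPoint_apply _ _ _).symm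
  obtain ⟨x, hx⟩ := (HensClosed.unitStalk_injective f ξ F).2 (EtGerm.Basic.germ G ξ W q t)
  obtain ⟨P₀, p₀, y₀, rfl⟩ := EtGerm.Basic.exists_germ F x
  obtain ⟨P, i, hP, v, hv⟩ := exists_affine_nhd P₀ (Basic.fiberPt p₀)
  obtain ⟨p, hp, -⟩ := Fiber.exists_fiber_map _ i p₀ v hv
  let y := F.obj.map i.op y₀
  let qB := PushStalk.liftPt f (rfl : ξ ≫ f = ξ ≫ f) P p
  have hgerm : EtGerm.Basic.germ G ξ _ qB (η f F P y) = EtGerm.Basic.germ G ξ W q t := by
    refine (HensClosed.unitStalk_germ f ξ F P p y).symm.trans (Eq.trans ?_ hx)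
    refine congrArg _ ?_
    exact (EtGerm.Basic.germ_map F _ i p y₀).trans (congrArg (fun r => EtGerm.Basic.germ F _ P₀ r y₀) hp)
  let T := IsCofiltered.min (Φ.fiber.elementsMk W q) (Φ.fiber.elementsMk ((EtCoh.bc f).obj P) qB)
  let a : T ⟶ Φ.fiber.elementsMk W q := IsCofiltered.minToLeft _ _
  let b : T ⟶ Φ.fiber.elementsMk ((EtCoh.bc f).obj P) qB := IsCofiltered.minToRight _ _
  have ha : Φ.fiber.map a.1 T.2 = q := a.2
  have hb : Φ.fiber.map b.1 T.2 = qB := b.2
  have h' : EtGerm.Basic.germ G ξ T.1 T.2 (G.obj.map b.1.op (η f F P y)) =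
      EtGerm.Basic.germ G ξ T.1 T.2 (G.obj.map a.1.op t) := by
    refine (EtGerm.Basic.germ_map G ξ b.1 T.2 _).trans (Eq.trans ?_ (EtGerm.Basic.germ_map G ξ a.1 T.2 _).symm)
    rw [ha, hb]
    exact hgerm
  obtain ⟨Z, g, hg, z, hz⟩ := (EtGerm.Basic.germ_eq_iff G ξ T.1 T.2 _ _).1 h'
  obtain ⟨W', r, hW', z', hz'⟩ := exists_affine_nhd Z z
  refine ⟨P, y, W', r ≫ g ≫ a.1, r ≫ g ≫ b.1, hP, hW', ⟨z', ?_⟩, ?_⟩
  · have e : Φ.fiber.map a.1 T.2 = q := ha
    refine Eq.trans ?_ (((Basic.fiberPt_map a.1 T.2).symm.trans (congrArg Basic.fiberPt e)).trans hq)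
    exact congrArg (Hl a.1).base ((congrArg (Hl g).base hz').trans hz)
  · simp only [op_comp, Functor.map_comp, ConcreteCategory.comp_apply]
    exact congrArg (G.obj.map r.op) hg

end Groth.Agent.Lib.Cont50.Germs
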