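import Groth.Agent.Lib.Cont50.General

/-!
# Coefficients given by a presheaf on all schemes compatible with limits (`G_m`, `G_a`)
-/

universe u

open CategoryTheory CategoryTheory.Limits AlgebraicGeometry Opposite

set_option backward.isDefEq.respectTransparency false
set_option linter.style.haveILetI false
set_option linter.unusedSectionVars false

noncomputable section

namespace Groth.Agent.Lib.Cont50.GlobalFun

open Sys Local Groth.Agent.Lib.Lim.Basic

variable (Φ : Scheme.{u}ᵒᵖ ⥤ AddCommGrpCat.{u + 1})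
  (hΦ : Presheaf.IsSheaf Scheme.etaleTopology Φ)

/-- The sheaf of a presheaf on all schemes. -/
def shf (X : Scheme.{u}) : EtCoh.Ab X :=
  ((Scheme.Etale.forget X ⋙ Over.forget X).sheafPushforwardContinuous _ _ Scheme.etaleTopology).obj
    ⟨Φ, hΦ⟩

/-- Functoriality in the scheme. -/
def shfPush {X Y : Scheme.{u}} (u : X ⟶ Y) : shf Φ hΦ Y ⟶ (EtCoh.push u).obj (shf Φ hΦ X) :=
  ObjectProperty.homMk (Functor.whiskerRight (NatTrans.op (EtLim.bcProj u)) Φ)

theorem shfPush_comp {X Y Z : Scheme.{u}} (u : X ⟶ Y) (v : Z ⟶ X) {w₀ : Z ⟶ Y} (w : v ≫ u = w₀) :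
    shfPush Φ hΦ u ≫ (EtCoh.push u).map (shfPush Φ hΦ v) ≫ (P2 u v w).hom.app (shf Φ hΦ Z) =
      shfPush Φ hΦ w₀ := by
  apply Sheaf.hom_ext
  refine NatTrans.ext (funext fun V => ?_)
  obtain ⟨V⟩ := V
  change Φ.map (pullback.fst V.hom u).op ≫
      Φ.map (pullback.fst ((EtCoh.bc u).obj V).hom v).op ≫
        ((P2 u v w).hom.app (shf Φ hΦ Z)).hom.app (op V) = Φ.map (pullback.fst V.hom w₀).op
  refine (_ ≫= (_ ≫= θ_app u v w V (shf Φ hΦ Z))).trans ?_
  change Φ.map (pullback.fst V.hom u).op ≫ Φ.map (pullback.fst ((EtCoh.bc u).obj V).hom v).op ≫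
    Φ.map (Hl (θ u v w V).hom).op = _
  refine ((_ ≫= (Φ.map_comp _ _).symm).trans (Φ.map_comp _ _).symm).trans
    (congrArg Φ.map (congrArg Quiver.Hom.op ?_))
  exact (Category.assoc _ _ _).trans (θ_fst u v w V)

variable {I : Type u} [SmallCategory I] [Quiver.IsThin I] {D : I ⥤ Scheme.{u}}

/-- The system. -/
def sys : System D where
  G j := shf Φ hΦ (D.obj j)
  t φ := shfPush Φ hΦ (D.map φ)
  comp ψ φ _ w := shfPush_comp Φ hΦ (D.map φ) (D.map ψ) w

/-- Compatibility of a presheaf on schemes with limits. -/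
def Compat : Prop :=
  ∀ {J : Type u} [SmallCategory J] [IsCofiltered J] (E : J ⥤ Scheme.{u}) (d : Cone E),
    IsLimit d → (∀ {a b : J} (f : a ⟶ b), IsAffineHom (E.map f)) → (∀ a, CompactSpace (E.obj a)) →
      (∀ a, QuasiSeparatedSpace (E.obj a)) →
      (∀ s : Φ.obj (op d.pt), ∃ (i : J) (t : Φ.obj (op (E.obj i))), Φ.map (d.π.app i).op t = s) ∧
      ∀ (i : J) (t : Φ.obj (op (E.obj i))), Φ.map (d.π.app i).op t = 0 →
        ∃ (j : J) (f : j ⟶ i), Φ.map (E.map f).op t = 0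

variable (c : Cone D) [IsCofiltered I] [∀ {i j : I} (f : i ⟶ j), IsAffineHom (D.map f)]
  [∀ j, CompactSpace (D.obj j)] [∀ j, QuasiSeparatedSpace (D.obj j)]
  [∀ {k j : I} (φ : k ⟶ j), PreservesFiniteLimits (EtCoh.pull (D.map φ))]
  [∀ j, PreservesFiniteLimits (EtCoh.pull (c.π.app j))]

theorem cont (hc : IsLimit c) (hcompat : Compat Φ) (n : ℕ) :
    Shift.SysSurj c (sys Φ hΦ) (shf Φ hΦ c.pt) (fun j => shfPush Φ hΦ (c.π.app j)) n ∧
      Shift.SysInj c (sys Φ hΦ) (shf Φ hΦ c.pt) (fun j => shfPush Φ hΦ (c.π.app j)) n := by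
  refine General.of_local' hc (sys Φ hΦ) (M := shf Φ hΦ c.pt) _ ?_ (fun j U hU s hs => ?_)
    (fun j U hU t z => ?_) n
  · exact fun {k j} φ => shfPush_comp Φ hΦ (D.map φ) (c.π.app k) (c.w φ)
  all_goals
    haveI : CompactSpace ((𝟭 Scheme.{u}).obj U.left) := inferInstanceAs (CompactSpace (Sc U))
    haveI : QuasiSeparatedSpace ((𝟭 Scheme.{u}).obj U.left) :=
      inferInstanceAs (QuasiSeparatedSpace (Sc U))
    let h₀ := IsPullback.of_hasPullback U.hom (c.π.app j)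
    obtain ⟨hs', hi'⟩ := hcompat (bcDiagram D U.hom) (bcCone h₀.w) (isLimitBcCone hc h₀)
      (fun {a b} f => MorphismProperty.of_isPullback (P := @IsAffineHom)
        (isPullback_bcDiagram_map D U.hom f).flip inferInstance)
      (fun o => compactSpace_bcDiagram D U.hom o) (fun o => quasiSeparatedSpace_bcDiagram D U.hom o)
  · let o₀ : Over j := Over.mk (𝟙 j)
    let s' : Φ.obj (op (pullback U.hom (D.map o₀.hom))) :=
      Φ.map (pullback.fst U.hom (D.map o₀.hom)).op s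
    have h0 : Φ.map ((bcCone h₀.w).π.app o₀).op s' = 0 := by
      refine (ConcreteCategory.comp_apply _ _ s).symm.trans (Eq.trans ?_ hs)
      exact congrArg (fun m => (ConcreteCategory.hom m) s)
        ((Φ.map_comp _ _).symm.trans (congrArg Φ.map (congrArg Quiver.Hom.op (bcCone_π_fst h₀.w o₀))))
    obtain ⟨o, f, hf⟩ := hi' o₀ s' h0
    refine ⟨o.left, o.hom, Eq.trans ?_ hf⟩
    refine Eq.trans ?_ (ConcreteCategory.comp_apply _ _ s)
    exact congrArg (fun m => (ConcreteCategory.hom m) s)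
      ((congrArg Φ.map (congrArg Quiver.Hom.op (bcDiagram_map_fst D U.hom f).symm)).trans
        (Φ.map_comp _ _))
  · obtain ⟨o, y, hy⟩ := hs' t
    refine ⟨o.left, o.hom, _, 𝟙 _, y, ⟨_, rfl⟩, ?_⟩
    change Φ.map (pullback.fst ((EtCoh.bc (D.map o.hom)).obj U).hom (c.π.app o.left)).op y = _
    rw [CategoryTheory.Functor.map_id, Category.id_comp, ← hy]
    let k := o.left
    let θi := Hl (θ (D.map o.hom) (c.π.app k) (c.w o.hom) U).inv
    let ρ' : Sc ((EtCoh.bc (c.π.app j)).obj U) ⟶ Sc ((EtCoh.bc (D.map o.hom)).obj U) := ρ o.hom U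
    have e : θi ≫ ρ' = pullback.fst ((EtCoh.bc (D.map o.hom)).obj U).hom (c.π.app k) := by
      refine (congrArg (θi ≫ ·) (Stage.θ_fst_ρ (c := c) o.hom U).symm).trans ?_
      refine (Category.assoc _ _ _).symm.trans ((congrArg (· ≫ _) ?_).trans (Category.id_comp _))
      exact congrArg CommaMorphism.left (congrArg MorphismProperty.Comma.Hom.hom
        (θ (D.map o.hom) (c.π.app k) (c.w o.hom) U).inv_hom_id)
    change _ = Φ.map θi.op (Φ.map ρ'.op y)
    exact (congrArg (fun m : Φ.obj (op (Sc ((EtCoh.bc (D.map o.hom)).obj U))) ⟶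
        Φ.obj (op (Sc ((EtCoh.bc (c.π.app k)).obj ((EtCoh.bc (D.map o.hom)).obj U)))) =>
          (ConcreteCategory.hom m) y)
      ((congrArg Φ.map (congrArg Quiver.Hom.op e.symm)).trans (Φ.map_comp _ _))).trans
        (ConcreteCategory.comp_apply _ _ y)

theorem compat_ΓAdd : Compat EtCoh.ΓAdd.{u} := by
  intro J _ _ E d hd haff hcp hqp
  haveI : ∀ {a b : J} (f : a ⟶ b), IsAffineHom (E.map f) := fun f => haff f
  haveI := hcp
  haveI := hqp
  refine ⟨fun ⟨s⟩ => ?_, fun i ⟨t⟩ ht => ?_⟩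
  · obtain ⟨i, t, ht⟩ := exists_appTop_π_eq_of_isLimit E d hd s
    exact ⟨i, ⟨t⟩, congrArg ULift.up ht.symm⟩
  · obtain ⟨j, f, hf⟩ := exists_appTop_map_eq_zero_of_isLimit E d hd t (congrArg ULift.down ht)
    exact ⟨j, f, congrArg ULift.up hf⟩

theorem compat_ΓUnits : Compat EtCoh.ΓUnits.{u} := by
  intro J _ _ E d hd haff hcp hqp
  haveI : ∀ {a b : J} (f : a ⟶ b), IsAffineHom (E.map f) := fun f => haff f
  haveI := hcp
  haveI := hqp
  refine ⟨fun s => ?_, fun i t ht => ?_⟩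
  · let u : (Γ(d.pt, ⊤))ˣ := Additive.toMul (ULift.down s : Additive (Γ(d.pt, ⊤))ˣ)
    obtain ⟨i₁, a, ha⟩ := exists_appTop_π_eq_of_isLimit E d hd (u : Γ(d.pt, ⊤))
    obtain ⟨i₂, b, hb⟩ := exists_appTop_π_eq_of_isLimit E d hd (↑u⁻¹ : Γ(d.pt, ⊤))
    let k := IsCofiltered.min i₁ i₂
    let a' := (E.map (IsCofiltered.minToLeft i₁ i₂)).appTop a
    let b' := (E.map (IsCofiltered.minToRight i₁ i₂)).appTop b
    have ha' : (d.π.app k).appTop a' = (u : Γ(d.pt, ⊤)) := by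
      rw [ha, ← d.w (IsCofiltered.minToLeft i₁ i₂), Scheme.Hom.comp_appTop]
      rfl
    have hb' : (d.π.app k).appTop b' = (↑u⁻¹ : Γ(d.pt, ⊤)) := by
      rw [hb, ← d.w (IsCofiltered.minToRight i₁ i₂), Scheme.Hom.comp_appTop]
      rfl
    obtain ⟨m, f, hf⟩ := exists_appTop_map_eq_zero_of_isLimit E d hd (a' * b' - 1)
      (by rw [map_sub, map_mul, map_one, ha', hb', Units.mul_inv, sub_self])
    let v : (Γ(E.obj m, ⊤))ˣ :=
      ⟨(E.map f).appTop a', (E.map f).appTop b',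
        by rw [← map_mul, ← sub_eq_zero, ← map_one (E.map f).appTop.hom, ← map_sub]; exact hf,
        by rw [mul_comm, ← map_mul, ← sub_eq_zero, ← map_one (E.map f).appTop.hom, ← map_sub]; exact hf⟩
    refine ⟨m, ULift.up (Additive.ofMul v), congrArg ULift.up (congrArg Additive.ofMul (Units.ext ?_))⟩
    change (d.π.app m).appTop ((E.map f).appTop a') = (u : Γ(d.pt, ⊤))
    rw [← ha', ← d.w f, Scheme.Hom.comp_appTop]
    rfl
  · let v : (Γ(E.obj i, ⊤))ˣ := Additive.toMul (ULift.down t : Additive (Γ(E.obj i, ⊤))ˣ)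
    have h1 : (d.π.app i).appTop (v : Γ(E.obj i, ⊤)) = 1 :=
      congrArg (fun x : ULift (Additive (Γ(d.pt, ⊤))ˣ) => ((Additive.toMul x.down : (Γ(d.pt, ⊤))ˣ) : Γ(d.pt, ⊤))) ht
    obtain ⟨j, f, hf⟩ := exists_appTop_map_eq_zero_of_isLimit E d hd ((v : Γ(E.obj i, ⊤)) - 1)
      (by rw [map_sub, map_one, h1, sub_self])
    rw [map_sub, map_one, sub_eq_zero] at hf
    exact ⟨j, f, congrArg ULift.up (congrArg Additive.ofMul (Units.ext hf))⟩

end Groth.Agent.Lib.Cont50.GlobalFun
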