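import Groth.Agent.Lib.Cont50.Sys
import Groth.Agent.Lib.EtLim50.Stage
import Groth.Agent.H88.EtMod.FilteredSections

/-!
# A section vanishing locally on the limit vanishes at a stage
-/

universe u

open CategoryTheory CategoryTheory.Limits AlgebraicGeometry Opposite TopologicalSpace

set_option backward.isDefEq.respectTransparency false
set_option linter.style.haveILetI false

noncomputable section

namespace Groth.Agent.Lib.Cont50.Local

open Groth.Agent.Lib.EtSite Groth.Agent.Lib.EtSite.Basic Sys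

/-- The underlying morphism of schemes. -/
abbrev Hl {X : Scheme.{u}} {U V : X.Etale} (g : U ⟶ V) : U.left ⟶ V.left := g.left

/-- The underlying scheme. -/
abbrev Sc {X : Scheme.{u}} (U : X.Etale) : Scheme.{u} := U.left

/-- The comparison of an iterated base change with a direct one. -/
def θ {X Y Z : Scheme.{u}} (u : X ⟶ Y) (v : Z ⟶ X) {w₀ : Z ⟶ Y} (w : v ≫ u = w₀) (V : Y.Etale) :
    (EtCoh.bc w₀).obj V ≅ (EtCoh.bc v).obj ((EtCoh.bc u).obj V) :=
  ((MorphismProperty.Over.pullbackCongr (P := EtCoh.etaleMP) (Q := ⊤) w).symm ≪≫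
    MorphismProperty.Over.pullbackComp (P := EtCoh.etaleMP) (Q := ⊤) v u).app V

theorem θ_app {X Y Z : Scheme.{u}} (u : X ⟶ Y) (v : Z ⟶ X) {w₀ : Z ⟶ Y} (w : v ≫ u = w₀)
    (V : Y.Etale) (N : EtCoh.Ab Z) :
    ((P2 u v w).hom.app N).hom.app (op V) = N.obj.map (θ u v w V).hom.op := by
  change ((EtCoh.pushComp u v).hom.app N).hom.app (op V) ≫
    ((EtCoh.pushCongr w).hom.app N).hom.app (op V) = _
  rw [HRes.Basic.pushComp_app, HRes.Basic.pushCongr_app]
  exact ((N.obj.map_comp _ _).symm.trans (congrArg N.obj.map rfl))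

theorem θ_fst {X Y Z : Scheme.{u}} (u : X ⟶ Y) (v : Z ⟶ X) {w₀ : Z ⟶ Y} (w : v ≫ u = w₀)
    (V : Y.Etale) :
    Hl (θ u v w V).hom ≫ pullback.fst ((EtCoh.bc u).obj V).hom v ≫ pullback.fst V.hom u =
      pullback.fst V.hom w₀ := by
  have e2 := MorphismProperty.Over.pullbackComp_left_fst_fst (P := EtCoh.etaleMP) (Q := ⊤) v u V
  have e5 := BaseChange.pullbackCongr_inv_fst w V
  exact (Category.assoc _ _ _).trans ((_ ≫= e2).trans e5)

theorem θ_snd {X Y Z : Scheme.{u}} (u : X ⟶ Y) (v : Z ⟶ X) {w₀ : Z ⟶ Y} (w : v ≫ u = w₀)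
    (V : Y.Etale) :
    Hl (θ u v w V).hom ≫ pullback.snd ((EtCoh.bc u).obj V).hom v = pullback.snd V.hom w₀ :=
  (Over.w (θ u v w V).hom.hom :)

variable {I : Type u} [SmallCategory I] {D : I ⥤ Scheme.{u}} (S : System D)

/-- The transition map on sections. -/
def tr {k j : I} (φ : k ⟶ j) (V : (D.obj j).Etale) :
    (S.G j).obj.obj (op V) →+ (S.G k).obj.obj (op ((EtCoh.bc (D.map φ)).obj V)) :=
  ((S.t φ).hom.app (op V)).hom

theorem tr_map {k j : I} (φ : k ⟶ j) {V V' : (D.obj j).Etale} (e : V' ⟶ V)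
    (s : (S.G j).obj.obj (op V)) :
    tr S φ V' ((S.G j).obj.map e.op s) =
      (S.G k).obj.map ((EtCoh.bc (D.map φ)).map e).op (tr S φ V s) :=
  NatTrans.naturality_apply (S.t φ).hom e.op s

theorem tr_tr {l k j : I} (ψ : l ⟶ k) (φ : k ⟶ j) (χ : l ⟶ j) (w : D.map ψ ≫ D.map φ = D.map χ)
    (V : (D.obj j).Etale) (s : (S.G j).obj.obj (op V)) :
    (S.G l).obj.map (θ (D.map φ) (D.map ψ) w V).hom.op (tr S ψ _ (tr S φ V s)) = tr S χ V s := by
  have h := congrArg (fun m => m.hom.app (op V)) (S.comp ψ φ χ w)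
  have h' := congrArg (fun m => m s) (congrArg ConcreteCategory.hom h)
  refine Eq.trans ?_ h'
  exact (congrArg (fun m => (ConcreteCategory.hom m) (tr S ψ _ (tr S φ V s)))
    (θ_app (D.map φ) (D.map ψ) w V (S.G l))).symm

variable {c : Cone D}

/-- The image in a stage of the base change to the limit. -/
def ρ {k j : I} (φ : k ⟶ j) (U : (D.obj j).Etale) :
    Sc ((EtCoh.bc (c.π.app j)).obj U) ⟶ Sc ((EtCoh.bc (D.map φ)).obj U) :=
  pullback.lift (pullback.fst U.hom (c.π.app j)) (pullback.snd U.hom (c.π.app j) ≫ c.π.app k)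
    (pullback.condition.trans ((_ ≫= (c.w φ).symm).trans (Category.assoc _ _ _).symm))

theorem ρ_fst {k j : I} (φ : k ⟶ j) (U : (D.obj j).Etale) :
    ρ (c := c) φ U ≫ pullback.fst U.hom (D.map φ) = pullback.fst U.hom (c.π.app j) :=
  pullback.lift_fst _ _ _

theorem ρ_snd {k j : I} (φ : k ⟶ j) (U : (D.obj j).Etale) :
    ρ (c := c) φ U ≫ pullback.snd U.hom (D.map φ) = pullback.snd U.hom (c.π.app j) ≫ c.π.app k :=
  pullback.lift_snd _ _ _

theorem ρ_trans {l k j : I} (ψ : l ⟶ k) (φ : k ⟶ j) (χ : l ⟶ j)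
    (w : D.map ψ ≫ D.map φ = D.map χ) (U : (D.obj j).Etale) :
    ρ (c := c) χ U ≫ Hl (θ (D.map φ) (D.map ψ) w U).hom ≫
      pullback.fst ((EtCoh.bc (D.map φ)).obj U).hom (D.map ψ) = ρ φ U := by
  refine pullback.hom_ext ?_ ?_
  · refine Eq.trans ?_ (ρ_fst φ U).symm
    refine ((Category.assoc _ _ _).trans (_ ≫= ((Category.assoc _ _ _).trans (θ_fst _ _ w U)))).trans ?_
    exact ρ_fst χ U
  · refine Eq.trans ?_ (ρ_snd φ U).symm
    refine ((Category.assoc _ _ _).trans (_ ≫= ((Category.assoc _ _ _).trans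
      (_ ≫= pullback.condition)))).trans ?_
    refine (_ ≫= ((Category.assoc _ _ _).symm.trans (congrArg (· ≫ _) (θ_snd _ _ w U)))).trans ?_
    refine ((Category.assoc _ _ _).symm.trans (congrArg (· ≫ _) (ρ_snd χ U))).trans ?_
    exact (Category.assoc _ _ _).trans (_ ≫= c.w ψ)

/-- The range of a base-changed morphism is the preimage of the range. -/
theorem mem_range_bc_map {X Y : Scheme.{u}} (f : X ⟶ Y) {U V : Y.Etale} (e : V ⟶ U)
    (y : Sc ((EtCoh.bc f).obj U))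
    (h : (pullback.fst U.hom f).base y ∈ Set.range (Hl e).base) :
    y ∈ Set.range (Hl ((EtCoh.bc f).map e)).base := by
  obtain ⟨v, hv⟩ := h
  let P := EtCoh.isPullback_bc_map f e
  obtain ⟨z, hz, -⟩ := Scheme.Pullback.exists_preimage_pullback
    (f := pullback.fst U.hom f) (g := Hl e) y v hv.symm
  refine ⟨P.isoPullback.inv.base z, ?_⟩
  exact (congr($(P.isoPullback_inv_fst) z)).trans hz

variable [Quiver.IsThin I] [IsCofiltered I] [∀ {i j : I} (f : i ⟶ j), IsAffineHom (D.map f)]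
  (hc : IsLimit c) (C : ∀ j, EtCoh.Ab (D.obj j)) (Z : ∀ j, S.G j ⟶ C j)
  (htrans : ∀ {k j : I} (φ : k ⟶ j) (V : (D.obj j).Etale) (s : (S.G j).obj.obj (op V)),
    (Z j).hom.app (op V) s = 0 → (Z k).hom.app (op _) (tr S φ V s) = 0)

include hc htrans in
/-- A section which vanishes near every point of the limit vanishes at a stage. -/
theorem dies {j : I} (U : (D.obj j).Etale) [hU : CompactSpace (Sc U)] (s : (S.G j).obj.obj (op U))
    (h : ∀ z : Sc ((EtCoh.bc (c.π.app j)).obj U), ∃ (k : I) (φ : k ⟶ j) (V : (D.obj k).Etale)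
      (e : V ⟶ (EtCoh.bc (D.map φ)).obj U),
        (ρ φ U).base z ∈ Set.range (Hl e).base ∧
          (Z k).hom.app (op V) ((S.G k).obj.map e.op (tr S φ U s)) = 0) :
    ∃ (k : I) (φ : k ⟶ j), (Z k).hom.app (op _) (tr S φ U s) = 0 := by
  classical
  haveI : CompactSpace ((𝟭 Scheme.{u}).obj U.left) := hU
  choose k φ V e hz he using h
  have hA : IsAffineHom (pullback.fst U.hom (c.π.app j)) :=
    have := Lim.Basic.isAffineHom_π hc j
    MorphismProperty.pullback_fst (P := @IsAffineHom) _ _ inferInstance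
  haveI : CompactSpace (Sc ((EtCoh.bc (c.π.app j)).obj U)) :=
    QuasiCompact.compactSpace_of_compactSpace (pullback.fst U.hom (c.π.app j))
  obtain ⟨T, hT⟩ := isCompact_univ.elim_finite_subcover
    (fun z => (ρ (c := c) (φ z) U).base ⁻¹' Set.range (Hl (e z)).base)
    (fun z => (Fiber.isOpen_range_left (e z)).preimage (ρ (φ z) U).continuous)
    (fun z _ => Set.mem_iUnion.mpr ⟨z, hz z⟩)
  obtain ⟨k₀, hk₀⟩ := IsCofiltered.inf_objs_exists (insert j (T.image k))
  let φ₀ : k₀ ⟶ j := (hk₀ (Finset.mem_insert_self _ _)).some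
  let ψ : ∀ z : {z // z ∈ T}, k₀ ⟶ k z.1 := fun z =>
    (hk₀ (Finset.mem_insert_of_mem (Finset.mem_image_of_mem k z.2))).some
  let U₀ := (EtCoh.bc (D.map φ₀)).obj U
  let θz := fun z : {z // z ∈ T} => θ (D.map (φ z.1)) (D.map (ψ z)) (map_map (ψ z) (φ z.1) φ₀) U
  let V' : {z // z ∈ T} → (D.obj k₀).Etale := fun z => (EtCoh.bc (D.map (ψ z))).obj (V z.1)
  let e' : ∀ z, V' z ⟶ U₀ := fun z => (EtCoh.bc (D.map (ψ z))).map (e z.1) ≫ (θz z).inv
  have he' : ∀ z, (Z k₀).hom.app (op (V' z)) ((S.G k₀).obj.map (e' z).op (tr S φ₀ U s)) = 0 := by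
    intro z
    have h1 := htrans (ψ z) _ _ (he z.1)
    rw [tr_map] at h1
    refine Eq.trans (congrArg _ ?_) h1
    rw [← tr_tr S (ψ z) (φ z.1) φ₀ (map_map _ _ _) U s]
    let a := tr S (ψ z) _ (tr S (φ z.1) U s)
    have h2 : e' z ≫ (θz z).hom = (EtCoh.bc (D.map (ψ z))).map (e z.1) :=
      (Category.assoc _ _ _).trans ((_ ≫= (θz z).inv_hom_id).trans (Category.comp_id _))
    exact (ConcreteCategory.comp_apply _ _ a).symm.trans
      (congrArg (fun m => (ConcreteCategory.hom m) a) (((S.G k₀).obj.map_comp _ _).symm.trans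
        (congrArg (fun m => (S.G k₀).obj.map (Quiver.Hom.op m)) h2)))
  have hcov : ∀ w : Sc ((EtCoh.bc (c.π.app j)).obj U),
      ∃ z, (ρ φ₀ U).base w ∈ Set.range (Hl (e' z)).base := by
    intro w
    obtain ⟨z, hzT, hw⟩ := Set.mem_iUnion₂.mp (hT (Set.mem_univ w))
    refine ⟨⟨z, hzT⟩, ?_⟩
    let y := (Hl (θz ⟨z, hzT⟩).hom).base ((ρ φ₀ U).base w)
    obtain ⟨v, hv⟩ := mem_range_bc_map (D.map (ψ ⟨z, hzT⟩)) (e z) y
      (Set.mem_of_eq_of_mem (congr($(ρ_trans (c := c) (ψ ⟨z, hzT⟩) (φ z) φ₀ (map_map _ _ _) U) w)) hw)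
    refine ⟨v, ?_⟩
    refine (congrArg (Hl (θz ⟨z, hzT⟩).inv).base hv).trans ?_
    exact congr($(congrArg CommaMorphism.left
      (congrArg MorphismProperty.Comma.Hom.hom (θz ⟨z, hzT⟩).hom_inv_id)) ((ρ φ₀ U).base w))
  haveI : IsAffineHom (pullback.fst U.hom (D.map φ₀)) :=
    MorphismProperty.pullback_fst (P := @IsAffineHom) _ _ inferInstance
  haveI : CompactSpace (Sc U₀) :=
    QuasiCompact.compactSpace_of_compactSpace (pullback.fst U.hom (D.map φ₀))
  haveI : CompactSpace ((𝟭 Scheme.{u}).obj U₀.left) := ‹CompactSpace (Sc U₀)›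
  obtain ⟨m, χ, hχ⟩ := EtLim50.Stage.exists_range_subset hc U₀.hom
    ⟨⋃ z, Set.range (Hl (e' z)).base, isOpen_iUnion fun z => Fiber.isOpen_range_left _⟩ (by
    rintro _ ⟨x, rfl⟩
    let l : pullback U₀.hom (c.π.app k₀) ⟶ Sc ((EtCoh.bc (c.π.app j)).obj U) :=
      pullback.lift (pullback.fst U₀.hom (c.π.app k₀) ≫ pullback.fst U.hom (D.map φ₀))
        (pullback.snd U₀.hom (c.π.app k₀))
        ((Category.assoc _ _ _).trans ((_ ≫= pullback.condition).trans
          ((Category.assoc _ _ _).symm.trans ((congrArg (· ≫ D.map φ₀) pullback.condition).trans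
            ((Category.assoc _ _ _).trans (_ ≫= c.w φ₀))))))
    have hl : l ≫ ρ φ₀ U = pullback.fst U₀.hom (c.π.app k₀) := by
      refine pullback.hom_ext ((Category.assoc _ _ _).trans ((_ ≫= ρ_fst φ₀ U).trans
        (pullback.lift_fst _ _ _))) ?_
      refine (Category.assoc _ _ _).trans ((_ ≫= ρ_snd φ₀ U).trans ?_)
      refine (Category.assoc _ _ _).symm.trans ((congrArg (· ≫ c.π.app k₀) (pullback.lift_snd _ _ _)).trans ?_)
      exact pullback.condition.symm
    obtain ⟨z, hz'⟩ := hcov (l.base x)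
    exact Set.mem_iUnion.mpr ⟨z, Set.mem_of_eq_of_mem (congr($hl x)).symm hz'⟩)
  let W := (EtCoh.bc (D.map χ)).obj U₀
  let f : ∀ z, (EtCoh.bc (D.map χ)).obj (V' z) ⟶ W := fun z => (EtCoh.bc (D.map χ)).map (e' z)
  have hf : Sieve.ofArrows _ f ∈ (D.obj m).smallEtaleTopology W := ofArrows_mem _ f fun w => by
    obtain ⟨z, hz'⟩ := Set.mem_iUnion.mp (hχ ⟨w, rfl⟩)
    obtain ⟨v, hv⟩ := mem_range_bc_map (D.map χ) (e' z) w hz'
    exact ⟨z, v, hv⟩
  have hW : (Z m).hom.app (op W) (tr S χ U₀ (tr S φ₀ U s)) = 0 := by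
    have hzero : ∀ z, (C m).obj.map (f z).op ((Z m).hom.app (op W) (tr S χ U₀ (tr S φ₀ U s))) = 0 :=
      fun z => by
        refine (NatTrans.naturality_apply (Z m).hom (f z).op _).symm.trans ?_
        have h1 := htrans χ _ _ (he' z)
        rwa [tr_map] at h1
    refine (H88.EtMod.FilteredSections.existsUnique_glue (C m) f hf (fun _ => 0)
      fun a b => by simp only [map_zero]).unique hzero fun z => map_zero _
  refine ⟨m, χ ≫ φ₀, ?_⟩
  rw [← tr_tr S χ φ₀ (χ ≫ φ₀) (map_map _ _ _) U s]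
  exact (NatTrans.naturality_apply (Z m).hom _ _).trans ((congrArg _ hW).trans (map_zero _))

end Groth.Agent.Lib.Cont50.Local
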