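import Groth.Agent.Lib.Cont50.General

/-!
# Systems indexed by a directed preorder
-/

universe u

open CategoryTheory CategoryTheory.Limits AlgebraicGeometry Opposite

set_option backward.isDefEq.respectTransparency false
set_option linter.style.haveILetI false
set_option linter.unusedSectionVars false

noncomputable section

namespace Groth.Agent.Lib.Cont50.OfPreorder

open Sys

theorem HpullThen_eq {X Y : Scheme.{u}} (f : X ⟶ Y) [PreservesFiniteLimits (EtCoh.pull f)]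
    (F : EtCoh.Ab Y) {M : EtCoh.Ab X} (α : (EtCoh.pull f).obj F ⟶ M) (n : ℕ)
    (x : EtCoh.H Y F n) :
    EtLim.HpullThen f F α n x = Hm f ((EtCoh.pullPushAdj f).homEquiv _ _ α) n x := by
  rw [Hm_apply, Equiv.symm_apply_apply]
  rfl

variable {ι : Type u} [Preorder ι] (Xs : ιᵒᵖ ⥤ Scheme.{u}) (F : ∀ i : ι, EtCoh.Ab (Xs.obj (op i)))
  (φ : ∀ ⦃i j : ι⦄ (h : i ≤ j), (EtCoh.pull (Xs.map (homOfLE h).op)).obj (F i) ⟶ F j)
  (hφ : ∀ ⦃i j k : ι⦄ (hij : i ≤ j) (hjk : j ≤ k),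
    φ (hij.trans hjk) = (EtLim.pullTrans Xs hij hjk).hom.app (F i) ≫
      (EtCoh.pull (Xs.map (homOfLE hjk).op)).map (φ hij) ≫ φ hjk)

/-- The transition map in adjoint form. -/
def t' {k j : ιᵒᵖ} (f : k ⟶ j) : F j.unop ⟶ (EtCoh.push (Xs.map f)).obj (F k.unop) :=
  (EtCoh.pullPushAdj (Xs.map f)).homEquiv _ _ (φ (leOfHom f.unop))

/-- The system attached to a family indexed by a preorder. -/
def sys : System Xs where
  G j := F j.unop
  t f := t' Xs F φ f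
  comp {l k j} ψ f χ w :=
    Colim.of_cocycle (Xs.map f) w (φ (leOfHom f.unop)) (φ (leOfHom ψ.unop)) (φ (leOfHom χ.unop))
      (hφ (leOfHom f.unop) (leOfHom ψ.unop))

variable (c : Cone Xs) (G : ι ⥤ EtCoh.Ab c.pt)
  (ψ : ∀ i : ι, (EtCoh.pull (c.π.app (op i))).obj (F i) ≅ G.obj i)
  (hψ : ∀ ⦃i j : ι⦄ (hij : i ≤ j), (ψ i).hom ≫ G.map (homOfLE hij) =
    (EtLim.pullTransCone Xs c hij).hom.app (F i) ≫ (EtCoh.pull (c.π.app (op j))).map (φ hij) ≫
      (ψ j).hom)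

include hψ in
theorem hb {k j : ιᵒᵖ} (f : k ⟶ j) :
    (sys Xs F φ hφ).t f ≫ (EtCoh.push (Xs.map f)).map
        (Colim.b (sys Xs F φ hφ) (unopUnop ι ⋙ G) (fun j => ψ j.unop) k) ≫
      (P2 (Xs.map f) (c.π.app k) (c.w f)).hom.app (G.obj k.unop) =
    Colim.b (sys Xs F φ hφ) (unopUnop ι ⋙ G) (fun j => ψ j.unop) j ≫
      (EtCoh.push (c.π.app j)).map (G.map f.unop) := by
  refine (Colim.of_cocycle (Xs.map f) (c.w f) (φ (leOfHom f.unop)) (ψ k.unop).hom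
    ((ψ j.unop).hom ≫ G.map f.unop) (hψ (leOfHom f.unop))).trans ?_
  exact (EtCoh.pullPushAdj (c.π.app j)).homEquiv_naturality_right _ _

variable [Nonempty ι] [IsDirected ι (· ≤ ·)]
  [∀ a, PreservesFiniteLimits (EtCoh.pull (c.π.app a))]
  [∀ ⦃a b : ιᵒᵖ⦄ (h : a ⟶ b), PreservesFiniteLimits (EtCoh.pull (Xs.map h))]

include hφ hψ in
theorem main (haff : ∀ ⦃a b : ιᵒᵖ⦄ (h : a ⟶ b), IsAffineHom (Xs.map h))
    (hqc : ∀ a, CompactSpace ↥(Xs.obj a)) (hqs : ∀ a, QuasiSeparatedSpace ↥(Xs.obj a))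
    (hc : IsLimit c) (n : ℕ) :
    (∀ ξ : EtCoh.H c.pt (colimit G) n, ∃ (j : ι) (ξj : EtCoh.H (Xs.obj (op j)) (F j) n),
        EtLim.HpullThen (c.π.app (op j)) (F j) ((ψ j).hom ≫ colimit.ι G j) n ξj = ξ) ∧
    (∀ (j : ι) (ξj : EtCoh.H (Xs.obj (op j)) (F j) n),
      EtLim.HpullThen (c.π.app (op j)) (F j) ((ψ j).hom ≫ colimit.ι G j) n ξj = 0 →
        ∃ (k : ι) (hk : j ≤ k), EtLim.HpullThen (Xs.map (homOfLE hk).op) (F j) (φ hk) n ξj = 0) := by
  haveI : Nonempty ιᵒᵖ := ⟨op (Classical.arbitrary ι)⟩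
  haveI : IsFiltered ι := inferInstance
  haveI : IsCofiltered ιᵒᵖ := inferInstance
  haveI : ∀ {a b : ιᵒᵖ} (h : a ⟶ b), IsAffineHom (Xs.map h) := fun h => haff h
  haveI : ∀ {a b : ιᵒᵖ} (h : a ⟶ b), PreservesFiniteLimits (EtCoh.pull (Xs.map h)) :=
    fun h => inferInstance
  haveI := hqc
  haveI := hqs
  let G' : ιᵒᵖᵒᵖ ⥤ EtCoh.Ab c.pt := unopUnop ι ⋙ G
  let S := sys Xs F φ hφ
  let ψ' : ∀ j : ιᵒᵖ, (EtCoh.pull (c.π.app j)).obj (S.G j) ≅ G'.obj (op j) := fun j => ψ j.unop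
  obtain ⟨hs, hi⟩ := General.cont hc S G' ψ' (fun f => hb Xs F φ hφ c G ψ hψ f) n
  let e : colimit G' ⟶ colimit G := colimit.pre G (unopUnop ι)
  haveI : (unopUnop ι).IsEquivalence := (opOpEquivalence ι).isEquivalence_functor
  haveI : IsIso e := inferInstanceAs (IsIso (colimit.pre G (unopUnop ι)))
  have key : ∀ (j : ι) (y : EtCoh.H (Xs.obj (op j)) (F j) n),
      EtLim.HpullThen (c.π.app (op j)) (F j) ((ψ j).hom ≫ colimit.ι G j) n y =
        Sheaf.H.map e n (Hm (c.π.app (op j)) (Colim.a S G' ψ' (op j)) n y) := by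
    intro j y
    refine (HpullThen_eq _ _ _ n y).trans (Eq.trans ?_ (Hm_post (c.π.app (op j)) _ e n y).symm)
    refine congrArg (fun m => Hm (c.π.app (op j)) m n y) ?_
    refine ((EtCoh.pullPushAdj (c.π.app (op j))).homEquiv_naturality_right _ _).trans ?_
    refine Eq.trans ?_ (Category.assoc _ _ _).symm
    refine _ ≫= Eq.trans ?_ ((EtCoh.push (c.π.app (op j))).map_comp _ _)
    exact congrArg (EtCoh.push (c.π.app (op j))).map (colimit.ι_pre G (unopUnop ι) (op (op j))).symm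
  refine ⟨fun ξ => ?_, fun j ξj hξ => ?_⟩
  · obtain ⟨j, y, hy⟩ := hs (Sheaf.H.map (inv e) n ξ)
    refine ⟨j.unop, y, (key j.unop y).trans ?_⟩
    refine (congrArg (Sheaf.H.map e n) hy).trans ?_
    rw [← Sheaf.H.map_comp_apply, IsIso.inv_hom_id, Sheaf.H.map_id_apply]
  · have h0 : Hm (c.π.app (op j)) (Colim.a S G' ψ' (op j)) n ξj = 0 := by
      have h := congrArg (Sheaf.H.map (inv e) n) ((key j ξj).symm.trans hξ)
      rwa [map_zero, ← Sheaf.H.map_comp_apply, IsIso.hom_inv_id, Sheaf.H.map_id_apply] at h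
    obtain ⟨k, f, hk⟩ := hi (op j) ξj h0
    exact ⟨k.unop, leOfHom f.unop,
      (HpullThen_eq (Xs.map f) (F j) (φ (leOfHom f.unop)) n ξj).trans hk⟩

end Groth.Agent.Lib.Cont50.OfPreorder
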