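import Groth.Agent.Lib.Cont50.Cohom

/-!
# Dimension shifting for systems
-/

universe u

open CategoryTheory CategoryTheory.Limits AlgebraicGeometry Opposite CategoryTheory.Abelian

set_option backward.isDefEq.respectTransparency false
set_option linter.style.haveILetI false
set_option linter.unusedSectionVars false

noncomputable section

namespace Groth.Agent.Lib.Cont50.Shift

open Sys Cohom Groth.Agent.Lib.SiteCoh.CechAcyclic

variable {I : Type u} [SmallCategory I] [Quiver.IsThin I] {D : I ⥤ Scheme.{u}} (c : Cone D)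
  [IsCofiltered I] [∀ {k j : I} (φ : k ⟶ j), PreservesFiniteLimits (EtCoh.pull (D.map φ))]
  [∀ j, PreservesFiniteLimits (EtCoh.pull (c.π.app j))]

/-- The transition maps on cohomology. -/
abbrev T (S : System D) {k j : I} (φ : k ⟶ j) (n : ℕ) :
    EtCoh.H (D.obj j) (S.G j) n →+ EtCoh.H (D.obj k) (S.G k) n :=
  Hm (D.map φ) (S.t φ) n

theorem T_T (S : System D) {l k j : I} (ψ : l ⟶ k) (φ : k ⟶ j) (χ : l ⟶ j) (n : ℕ)
    (x : EtCoh.H (D.obj j) (S.G j) n) : T S ψ n (T S φ n x) = T S χ n x :=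
  Hm_comp (D.map φ) (map_map ψ φ χ) (S.comp ψ φ χ _) n x

theorem H_T {S : System D} {M : EtCoh.Ab c.pt} {a : ∀ j, S.G j ⟶ (EtCoh.push (c.π.app j)).obj M}
    (ha : IsTarget S c M a) {k j : I} (φ : k ⟶ j) (n : ℕ) (x : EtCoh.H (D.obj j) (S.G j) n) :
    Hm (c.π.app k) (a k) n (T S φ n x) = Hm (c.π.app j) (a j) n x :=
  Hm_comp (D.map φ) (c.w φ) (ha φ) n x

/-- Classes on the limit come from stages. -/
def SysSurj (S : System D) (M : EtCoh.Ab c.pt) (a : ∀ j, S.G j ⟶ (EtCoh.push (c.π.app j)).obj M)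
    (n : ℕ) : Prop :=
  ∀ x : EtCoh.H c.pt M n, ∃ (j : I) (y : EtCoh.H (D.obj j) (S.G j) n), Hm (c.π.app j) (a j) n y = x

/-- Classes dying on the limit die at stages. -/
def SysInj (S : System D) (M : EtCoh.Ab c.pt) (a : ∀ j, S.G j ⟶ (EtCoh.push (c.π.app j)).obj M)
    (n : ℕ) : Prop :=
  ∀ (j : I) (y : EtCoh.H (D.obj j) (S.G j) n), Hm (c.π.app j) (a j) n y = 0 →
    ∃ (k : I) (φ : k ⟶ j), T S φ n y = 0

variable [∀ j, CompactSpace (D.obj j)] [∀ j, QuasiSeparatedSpace (D.obj j)]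

theorem Hm_id_pre {j : I} {G : EtCoh.Ab (D.obj j)} {N : EtCoh.Ab c.pt}
    (a : G ⟶ (EtCoh.push (c.π.app j)).obj N) (m : ℕ) (z : EtCoh.H (D.obj j) G m) :
    Hm (c.π.app j) (𝟙 _) m (Sheaf.H.map a m z) = Hm (c.π.app j) a m z := by
  rw [Hm_pre, Category.comp_id]

/-- A system with the same sections on the limit as the direct images has the same cohomology. -/
theorem of_push (S : System D) (M : EtCoh.Ab c.pt)
    (a : ∀ j, S.G j ⟶ (EtCoh.push (c.π.app j)).obj M) (ha : IsTarget S c M a)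
    (hmono : ∀ j, Mono (a j))
    (hss : ∀ (j : I) (U : (D.obj j).Etale), IsAffine (Local.Sc U) →
      ∀ t : ((EtCoh.push (c.π.app j)).obj M).obj.obj (op U), ∃ (k : I) (φ : k ⟶ j)
        (y : (S.G k).obj.obj (op ((EtCoh.bc (D.map φ)).obj U))),
        ((P2 (D.map φ) (c.π.app k) (c.w φ)).hom.app M).hom.app (op U)
          ((a k).hom.app (op ((EtCoh.bc (D.map φ)).obj U)) y) = t)
    (n : ℕ) (hs : SysSurj c (pushSystem c M) M (fun _ => 𝟙 _) n)
    (hi : SysInj c (pushSystem c M) M (fun _ => 𝟙 _) n) :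
    SysSurj c S M a n ∧ SysInj c S M a n := by
  refine ⟨fun x => ?_, fun j y hy => ?_⟩
  · obtain ⟨j, q, rfl⟩ := hs x
    obtain ⟨k, φ, z, hz⟩ := exists_lift S c M a ha hmono hss j n q
    refine ⟨k, z, ?_⟩
    rw [← Hm_id_pre c (a k) n z, hz]
    exact H_T c (isTarget_pushSystem c M) φ n q
  · obtain ⟨k, φ, hφ⟩ := hi j (Sheaf.H.map (a j) n y) ((Hm_id_pre c (a j) n y).trans hy)
    obtain ⟨l, ψ, hψ⟩ := exists_dies S c M a ha hmono hss k n (T S φ n y)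
      ((Hm_comm (D.map φ) (IsTarget.isHom ha φ) n y).trans hφ)
    exact ⟨l, ψ ≫ φ, (T_T S ψ φ (ψ ≫ φ) n y).symm.trans hψ⟩

/-- Dimension shifting. -/
theorem shift {A B C : System D} {f : ∀ j, A.G j ⟶ B.G j} {p : ∀ j, B.G j ⟶ C.G j}
    (hf : IsHom A B f) (hp : IsHom B C p) (wj : ∀ j, f j ≫ p j = 0)
    (hse : ∀ j, (ShortComplex.mk (f j) (p j) (wj j)).ShortExact) (hB : ∀ j, Injective (B.G j))
    {F J Q : EtCoh.Ab c.pt} {f₀ : F ⟶ J} {g₀ : J ⟶ Q} {w₀ : f₀ ≫ g₀ = 0}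
    (hS : (ShortComplex.mk f₀ g₀ w₀).ShortExact) [Injective J]
    {aA : ∀ j, A.G j ⟶ (EtCoh.push (c.π.app j)).obj F}
    {aB : ∀ j, B.G j ⟶ (EtCoh.push (c.π.app j)).obj J}
    {aC : ∀ j, C.G j ⟶ (EtCoh.push (c.π.app j)).obj Q}
    (hB' : IsTarget B c J aB) (hC' : IsTarget C c Q aC)
    (h₁ : ∀ j, aA j ≫ (EtCoh.push (c.π.app j)).map f₀ = f j ≫ aB j)
    (h₂ : ∀ j, aB j ≫ (EtCoh.push (c.π.app j)).map g₀ = p j ≫ aC j)
    (n : ℕ) (hJ : SysSurj c B J aB n) (hs : SysSurj c C Q aC n) (hi : SysInj c C Q aC n) :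
    SysSurj c A F aA (n + 1) ∧ SysInj c A F aA (n + 1) := by
  refine ⟨fun x => ?_, fun j y hy => ?_⟩
  · obtain ⟨q, rfl⟩ := connHom_surjective hS _ n (fun x => Ext.eq_zero_of_injective x) x
    obtain ⟨j, z, rfl⟩ := hs q
    exact ⟨j, connHom (hse j) _ n z,
      Hm_conn (c.π.app j) (hse j) hS (aA j) (aB j) (aC j) (h₁ j) (h₂ j) n z⟩
  · haveI := hB j
    obtain ⟨z, rfl⟩ := connHom_surjective (hse j) _ n (fun x => Ext.eq_zero_of_injective x) y
    obtain ⟨t, ht⟩ := (connHom_eq_zero_iff hS _ n _).1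
      ((Hm_conn (c.π.app j) (hse j) hS (aA j) (aB j) (aC j) (h₁ j) (h₂ j) n z).symm.trans hy)
    obtain ⟨k', tk, rfl⟩ := hJ t
    let l := IsCofiltered.min j k'
    let ψ : l ⟶ j := IsCofiltered.minToLeft j k'
    let χ : l ⟶ k' := IsCofiltered.minToRight j k'
    let d := T C ψ n z - Sheaf.H.map (p l) n (T B χ n tk)
    have hd : Hm (c.π.app l) (aC l) n d = 0 := by
      rw [map_sub, sub_eq_zero, H_T c hC' ψ n z, Hm_pre, ← h₂ l, ← Hm_post, H_T c hB' χ n tk]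
      exact ht.symm
    obtain ⟨m, ω, hω⟩ := hi l d hd
    refine ⟨m, ω ≫ ψ, ?_⟩
    rw [map_sub, sub_eq_zero, T_T C ω ψ (ω ≫ ψ)] at hω
    refine (Hm_conn (D.map (ω ≫ ψ)) (hse j) (hse m) (A.t _) (B.t _) (C.t _) (hf _) (hp _) n z).trans ?_
    refine (connHom_eq_zero_iff (hse m) _ n _).2 ⟨T B (ω ≫ χ) n tk, ?_⟩
    refine Eq.trans ?_ hω.symm
    rw [← T_T B ω χ (ω ≫ χ)]
    exact Hm_comm (D.map ω) (hp ω) n _

end Groth.Agent.Lib.Cont50.Shift
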