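import Groth.Prelude.Def_EtLim
import Groth.Agent.Lib.HRes.Basic
import Groth.Agent.Lib.SiteCoh.CechAcyclic
import Groth.Agent.Lib.EtH1Gm.HofPush

/-!
# Systems of sheaves over a cofiltered system of schemes

Morphisms of sheaves lying over a morphism of schemes are written as maps into direct images; they
act on cohomology, compatibly with composition and with connecting maps.
-/

universe u

open CategoryTheory CategoryTheory.Limits AlgebraicGeometry Opposite CategoryTheory.Abelian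

set_option backward.isDefEq.respectTransparency false

noncomputable section

namespace Groth.Agent.Lib.Cont50.Sys

open Groth.Agent.H61 Groth.Agent.Lib.SiteCoh.CechAcyclic

/-- Direct images along a commutative triangle. -/
def P2 {X Y Z : Scheme.{u}} (u : X ⟶ Y) (v : Z ⟶ X) {w₀ : Z ⟶ Y} (w : v ≫ u = w₀) :
    EtCoh.push v ⋙ EtCoh.push u ≅ EtCoh.push w₀ :=
  EtCoh.pushComp u v ≪≫ EtCoh.pushCongr w

theorem P2_assoc {Y T T' T'' : Scheme.{u}} {t : T ⟶ Y} {a : T' ⟶ T} {b : T'' ⟶ T'} {r : T' ⟶ Y}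
    {s : T'' ⟶ T} {q : T'' ⟶ Y} (hr : a ≫ t = r) (hs : b ≫ a = s) (h₁ : b ≫ r = q) (h₂ : s ≫ t = q)
    (N : EtCoh.Ab T'') :
    (P2 t a hr).hom.app ((EtCoh.push b).obj N) ≫ (P2 r b h₁).hom.app N =
      (EtCoh.push t).map ((P2 a b hs).hom.app N) ≫ (P2 t s h₂).hom.app N := by
  subst hr hs
  simp only [P2, Iso.trans_hom, NatTrans.comp_app, HpullFunct.pushCongr_rfl, Category.comp_id]
  exact HRes.Basic.push_assoc b a t N h₁ h₂

theorem congr_symm {X Y : Scheme.{u}} {f f' : X ⟶ Y} (h : f = f') :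
    EtCoh.pushCongr h.symm = (EtCoh.pushCongr h).symm := by
  subst h
  refine Iso.ext (NatTrans.ext (funext fun N => ?_))
  rw [Iso.symm_hom]
  have h1 : (EtCoh.pushCongr (rfl : f = f)).hom.app N = 𝟙 _ := HpullFunct.pushCongr_rfl f N
  have h2 := (EtCoh.pushCongr (rfl : f = f)).hom_inv_id_app N
  rw [h1, Category.id_comp] at h2
  exact h1.trans h2.symm

variable {X Y : Scheme.{u}} (f : X ⟶ Y) [PreservesFiniteLimits (EtCoh.pull f)]

/-- The map on cohomology induced by a morphism over `f`. -/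
def Hm {G : EtCoh.Ab Y} {F : EtCoh.Ab X} (a : G ⟶ (EtCoh.push f).obj F) (n : ℕ) :
    EtCoh.H Y G n →+ EtCoh.H X F n :=
  (EtLim.HofPush f F n).comp ((EtCoh.HF Y n).map a).hom

theorem Hm_apply {G : EtCoh.Ab Y} {F : EtCoh.Ab X} (a : G ⟶ (EtCoh.push f).obj F) (n : ℕ)
    (x : EtCoh.H Y G n) :
    Hm f a n x =
      Sheaf.H.map (((EtCoh.pullPushAdj f).homEquiv _ _).symm a) n (EtCore.Hpull f G n x) := by
  change Sheaf.H.map ((EtCoh.pullPushAdj f).counit.app F) n
    (EtCore.Hpull f _ n (((EtCoh.HF Y n).map a).hom x)) = _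
  rw [HpullFunct.Hpull_map]
  refine (Sheaf.H.map_comp_apply _ _ _).symm.trans ?_
  rw [Adjunction.homEquiv_counit]
  rfl

theorem Hm_pre {G' G : EtCoh.Ab Y} {F : EtCoh.Ab X} (g : G' ⟶ G) (a : G ⟶ (EtCoh.push f).obj F)
    (n : ℕ) (x : EtCoh.H Y G' n) : Hm f a n (Sheaf.H.map g n x) = Hm f (g ≫ a) n x :=
  congrArg (EtLim.HofPush f F n) (Sheaf.H.map_comp_apply _ _ _).symm

theorem Hm_post {G : EtCoh.Ab Y} {F F' : EtCoh.Ab X} (a : G ⟶ (EtCoh.push f).obj F) (g : F ⟶ F')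
    (n : ℕ) (x : EtCoh.H Y G n) :
    Sheaf.H.map g n (Hm f a n x) = Hm f (a ≫ (EtCoh.push f).map g) n x := by
  rw [Hm_apply, Hm_apply, ← Sheaf.H.map_comp_apply, Adjunction.homEquiv_naturality_right_symm]

theorem Hm_comm {G G' : EtCoh.Ab Y} {F F' : EtCoh.Ab X} {a : G ⟶ (EtCoh.push f).obj F}
    {a' : G' ⟶ (EtCoh.push f).obj F'} {g : G ⟶ G'} {g' : F ⟶ F'}
    (h : a ≫ (EtCoh.push f).map g' = g ≫ a') (n : ℕ) (x : EtCoh.H Y G n) :
    Sheaf.H.map g' n (Hm f a n x) = Hm f a' n (Sheaf.H.map g n x) := by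
  rw [Hm_post, Hm_pre, h]

/-- A morphism over `f` between short exact sequences commutes with connecting maps. -/
theorem Hm_conn {S : ShortComplex (EtCoh.Ab Y)} {T : ShortComplex (EtCoh.Ab X)} (hS : S.ShortExact)
    (hT : T.ShortExact) (a₁ : S.X₁ ⟶ (EtCoh.push f).obj T.X₁)
    (a₂ : S.X₂ ⟶ (EtCoh.push f).obj T.X₂) (a₃ : S.X₃ ⟶ (EtCoh.push f).obj T.X₃)
    (h₁ : a₁ ≫ (EtCoh.push f).map T.f = S.f ≫ a₂) (h₂ : a₂ ≫ (EtCoh.push f).map T.g = S.g ≫ a₃)
    (n : ℕ) (y : EtCoh.H Y S.X₃ n) :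
    Hm f a₁ (n + 1) (connHom hS _ n y) = connHom hT _ n (Hm f a₃ n y) := by
  rw [Hm_apply, Hm_apply]
  let α : S.map (EtCoh.pull f) ⟶ T :=
    { τ₁ := ((EtCoh.pullPushAdj f).homEquiv _ _).symm a₁
      τ₂ := ((EtCoh.pullPushAdj f).homEquiv _ _).symm a₂
      τ₃ := ((EtCoh.pullPushAdj f).homEquiv _ _).symm a₃
      comm₁₂ := by
        rw [← Adjunction.homEquiv_naturality_right_symm, h₁, Adjunction.homEquiv_naturality_left_symm]
        rfl
      comm₂₃ := by
        rw [← Adjunction.homEquiv_naturality_right_symm, h₂, Adjunction.homEquiv_naturality_left_symm]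
        rfl }
  have key := ShortComplex.ShortExact.extClass_naturality (hS.map_of_exact (EtCoh.pull f)) hT α
  change ((Ext.mk₀ (EtCore.pullConst f ℤ).inv).comp
      ((y.comp hS.extClass rfl).mapExactFunctor (EtCoh.pull f)) (zero_add (n + 1))).comp
        (Ext.mk₀ α.τ₁) (add_zero (n + 1)) =
    (((Ext.mk₀ (EtCore.pullConst f ℤ).inv).comp (y.mapExactFunctor (EtCoh.pull f))
      (zero_add n)).comp (Ext.mk₀ α.τ₃) (add_zero n)).comp hT.extClass rfl
  rw [Ext.mapExactFunctor_comp, Ext.mapExactFunctor_extClass]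
  exact Groth.Agent.Lib.EtH1Gm.HofPush.comp_aux _ rfl _ _ _ _ _ key

omit [PreservesFiniteLimits (EtCoh.pull f)] in
theorem adj_comp {Z : Scheme.{u}} {g : Z ⟶ X} {w₀ : Z ⟶ Y} (w : g ≫ f = w₀) {G : EtCoh.Ab Y}
    {F : EtCoh.Ab X} {E : EtCoh.Ab Z} {a : G ⟶ (EtCoh.push f).obj F}
    {b : F ⟶ (EtCoh.push g).obj E} {c : G ⟶ (EtCoh.push w₀).obj E}
    (h : a ≫ (EtCoh.push f).map b ≫ (P2 f g w).hom.app E = c) :
    (EtCoh.pull g).map (((EtCoh.pullPushAdj f).homEquiv _ _).symm a) ≫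
        ((EtCoh.pullPushAdj g).homEquiv _ _).symm b =
      ((EtCore.pullComp g f).symm ≪≫ EtCore.pullCongr w).hom.app G ≫
        ((EtCoh.pullPushAdj w₀).homEquiv _ _).symm c := by
  apply ((EtCoh.pullPushAdj g).homEquiv _ _).injective
  apply ((EtCoh.pullPushAdj f).homEquiv _ _).injective
  refine (cancel_mono ((P2 f g w).hom.app E)).1 ?_
  refine Eq.trans ?_ (HpullFunct.homEquiv_pullVia w _).symm
  rw [Adjunction.homEquiv_naturality_left, Equiv.apply_symm_apply,
    Adjunction.homEquiv_naturality_right, Equiv.apply_symm_apply, Category.assoc,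
    Equiv.apply_symm_apply]
  exact h

theorem Hm_comp {Z : Scheme.{u}} {g : Z ⟶ X} {w₀ : Z ⟶ Y} [PreservesFiniteLimits (EtCoh.pull g)]
    [PreservesFiniteLimits (EtCoh.pull w₀)] (w : g ≫ f = w₀) {G : EtCoh.Ab Y} {F : EtCoh.Ab X}
    {E : EtCoh.Ab Z} {a : G ⟶ (EtCoh.push f).obj F} {b : F ⟶ (EtCoh.push g).obj E}
    {c : G ⟶ (EtCoh.push w₀).obj E} (h : a ≫ (EtCoh.push f).map b ≫ (P2 f g w).hom.app E = c)
    (n : ℕ) (x : EtCoh.H Y G n) : Hm g b n (Hm f a n x) = Hm w₀ c n x := by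
  rw [Hm_apply, Hm_apply, Hm_apply, ← HpullFunct.HpullVia_Hpull g f w₀ w G n x]
  refine (congrArg (Sheaf.H.map _ n) (HpullFunct.Hpull_map _ n _)).trans ?_
  refine ((Sheaf.H.map_comp_apply _ _ _).symm.trans ?_).trans (Sheaf.H.map_comp_apply _ _ _)
  rw [adj_comp f w h]
  rfl

/-- A system of sheaves over a diagram of schemes. -/
structure System {I : Type u} [SmallCategory I] (D : I ⥤ Scheme.{u}) where
  G : ∀ j, EtCoh.Ab (D.obj j)
  t : ∀ {k j : I} (φ : k ⟶ j), G j ⟶ (EtCoh.push (D.map φ)).obj (G k)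
  comp : ∀ {l k j : I} (ψ : l ⟶ k) (φ : k ⟶ j) (χ : l ⟶ j) (w : D.map ψ ≫ D.map φ = D.map χ),
    t φ ≫ (EtCoh.push (D.map φ)).map (t ψ) ≫ (P2 (D.map φ) (D.map ψ) w).hom.app (G l) = t χ

variable {I : Type u} [SmallCategory I] {D : I ⥤ Scheme.{u}}

theorem map_map [Quiver.IsThin I] {l k j : I} (ψ : l ⟶ k) (φ : k ⟶ j) (χ : l ⟶ j) :
    D.map ψ ≫ D.map φ = D.map χ :=
  (D.map_comp ψ φ).symm.trans (congrArg D.map (Subsingleton.elim _ _))

/-- A morphism of systems. -/
def IsHom (S S' : System D) (f : ∀ j, S.G j ⟶ S'.G j) : Prop :=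
  ∀ {k j : I} (φ : k ⟶ j), S.t φ ≫ (EtCoh.push (D.map φ)).map (f k) = f j ≫ S'.t φ

/-- A family of maps to the direct images of a sheaf on the limit. -/
def IsTarget (S : System D) (c : Cone D) (M : EtCoh.Ab c.pt)
    (a : ∀ j, S.G j ⟶ (EtCoh.push (c.π.app j)).obj M) : Prop :=
  ∀ {k j : I} (φ : k ⟶ j), S.t φ ≫ (EtCoh.push (D.map φ)).map (a k) ≫
    (P2 (D.map φ) (c.π.app k) (c.w φ)).hom.app M = a j

theorem mono_push_map {X Y : Scheme.{u}} (f : X ⟶ Y) {F G : EtCoh.Ab X} (g : F ⟶ G) [Mono g] :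
    Mono ((EtCoh.push f).map g) := by
  have := (EtCoh.pullPushAdj f).rightAdjoint_preservesLimits.{0, 0}
  exact (EtCoh.push f).map_mono g

/-- A system of subsheaves. -/
def subSystem (S : System D) (N : ∀ j, EtCoh.Ab (D.obj j)) (inc : ∀ j, N j ⟶ S.G j)
    [∀ j, Mono (inc j)] (t : ∀ {k j : I} (φ : k ⟶ j), N j ⟶ (EtCoh.push (D.map φ)).obj (N k))
    (h : ∀ {k j : I} (φ : k ⟶ j), t φ ≫ (EtCoh.push (D.map φ)).map (inc k) = inc j ≫ S.t φ) :
    System D where
  G := N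
  t := t
  comp {l k j} ψ φ χ w := by
    have := mono_push_map (D.map χ) (inc l)
    rw [← cancel_mono ((EtCoh.push (D.map χ)).map (inc l)), h, Category.assoc, Category.assoc,
      ← NatTrans.naturality]
    change _ ≫ _ ≫ (EtCoh.push (D.map φ)).map ((EtCoh.push (D.map ψ)).map (inc l)) ≫ _ = _
    rw [← Functor.map_comp_assoc, h, Functor.map_comp_assoc, ← Category.assoc, h, Category.assoc,
      S.comp ψ φ χ w]

/-- The direct images of a sheaf on the limit. -/
def pushSystem [Quiver.IsThin I] (c : Cone D) (M : EtCoh.Ab c.pt) : System D where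
  G j := (EtCoh.push (c.π.app j)).obj M
  t {k j} φ := (P2 (D.map φ) (c.π.app k) (c.w φ)).inv.app M
  comp {l k j} ψ φ χ w := by
    have key := P2_assoc (r := D.map χ) (s := c.π.app k) w (c.w ψ) (c.w χ) (c.w φ) M
    refine (cancel_mono ((P2 (D.map χ) (c.π.app l) (c.w χ)).hom.app M)).1 ?_
    refine ((Category.assoc _ _ _).trans (_ ≫= ((Category.assoc _ _ _).trans (_ ≫= key)))).trans ?_
    refine (_ ≫= ((Category.assoc _ _ _).symm.trans ((congrArg (· ≫ _) ?_).trans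
      (Category.id_comp _)))).trans
        (((P2 _ _ _).inv_hom_id_app M).trans ((P2 _ _ _).inv_hom_id_app M).symm)
    exact ((EtCoh.push (D.map φ)).map_comp _ _).symm.trans
      ((congrArg (EtCoh.push (D.map φ)).map ((P2 _ _ _).inv_hom_id_app M)).trans
        ((EtCoh.push (D.map φ)).map_id _))

theorem isTarget_pushSystem [Quiver.IsThin I] (c : Cone D) (M : EtCoh.Ab c.pt) :
    IsTarget (pushSystem c M) c M fun _ => 𝟙 _ := by
  intro k j φ
  change (P2 (D.map φ) (c.π.app k) (c.w φ)).inv.app M ≫ (EtCoh.push (D.map φ)).map (𝟙 _) ≫ _ = _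
  rw [CategoryTheory.Functor.map_id]
  exact (_ ≫= Category.id_comp _).trans ((P2 _ _ _).inv_hom_id_app M)

/-- A target is a morphism to the system of direct images. -/
theorem IsTarget.isHom [Quiver.IsThin I] {S : System D} {c : Cone D} {M : EtCoh.Ab c.pt}
    {a : ∀ j, S.G j ⟶ (EtCoh.push (c.π.app j)).obj M} (h : IsTarget S c M a) :
    IsHom S (pushSystem c M) a := by
  intro k j φ
  change _ = a j ≫ (P2 (D.map φ) (c.π.app k) (c.w φ)).inv.app M
  rw [← h φ, Category.assoc, Category.assoc, Iso.hom_inv_id_app]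
  exact (_ ≫= (Category.comp_id _).symm)

theorem IsHom.isTarget [Quiver.IsThin I] {S : System D} {c : Cone D} {M : EtCoh.Ab c.pt}
    {a : ∀ j, S.G j ⟶ (EtCoh.push (c.π.app j)).obj M} (h : IsHom S (pushSystem c M) a) :
    IsTarget S c M a := by
  intro k j φ
  have h' : S.t φ ≫ (EtCoh.push (D.map φ)).map (a k) =
      a j ≫ (P2 (D.map φ) (c.π.app k) (c.w φ)).inv.app M := h φ
  rw [← Category.assoc, h', Category.assoc, Iso.inv_hom_id_app]
  exact Category.comp_id _

section Kernel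

variable {S S' : System D} {f : ∀ j, S.G j ⟶ S'.G j}

/-- The transition map of the kernels. -/
def kerT (hf : IsHom S S' f) {k j : I} (φ : k ⟶ j) :
    kernel (f j) ⟶ (EtCoh.push (D.map φ)).obj (kernel (f k)) :=
  haveI := (EtCoh.pullPushAdj (D.map φ)).rightAdjoint_preservesLimits.{0, 0}
  kernel.lift ((EtCoh.push (D.map φ)).map (f k)) (kernel.ι (f j) ≫ S.t φ)
    (by rw [Category.assoc, hf φ, kernel.condition_assoc, zero_comp]) ≫
    (PreservesKernel.iso (EtCoh.push (D.map φ)) (f k)).inv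

theorem kerT_ι (hf : IsHom S S' f) {k j : I} (φ : k ⟶ j) :
    kerT hf φ ≫ (EtCoh.push (D.map φ)).map (kernel.ι (f k)) = kernel.ι (f j) ≫ S.t φ := by
  haveI := (EtCoh.pullPushAdj (D.map φ)).rightAdjoint_preservesLimits.{0, 0}
  rw [kerT, Category.assoc, PreservesKernel.iso_inv_ι, kernel.lift_ι]

/-- The kernel of a morphism of systems. -/
def kerSystem (hf : IsHom S S' f) : System D :=
  subSystem S (fun j => kernel (f j)) (fun j => kernel.ι (f j)) (fun φ => kerT hf φ)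
    fun φ => kerT_ι hf φ

theorem isHom_ι (hf : IsHom S S' f) : IsHom (kerSystem hf) S fun j => kernel.ι (f j) :=
  fun φ => kerT_ι hf φ

theorem coker_zero (hf : IsHom S S' f) {k j : I} (φ : k ⟶ j) :
    Abelian.image.ι (f j) ≫ S'.t φ ≫ (EtCoh.push (D.map φ)).map (cokernel.π (f k)) = 0 := by
  rw [← cancel_epi (Abelian.factorThruImage (f j)), comp_zero, ← Category.assoc,
    Abelian.image.fac, ← Category.assoc, ← hf φ, Category.assoc, ← Functor.map_comp, cokernel.condition,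
    Functor.map_zero, comp_zero]

/-- The transition map of the images. -/
def imT (hf : IsHom S S' f) {k j : I} (φ : k ⟶ j) :
    Abelian.image (f j) ⟶ (EtCoh.push (D.map φ)).obj (Abelian.image (f k)) :=
  haveI := (EtCoh.pullPushAdj (D.map φ)).rightAdjoint_preservesLimits.{0, 0}
  kernel.lift ((EtCoh.push (D.map φ)).map (cokernel.π (f k))) (Abelian.image.ι (f j) ≫ S'.t φ)
    (by rw [Category.assoc]; exact coker_zero hf φ) ≫
    (PreservesKernel.iso (EtCoh.push (D.map φ)) (cokernel.π (f k))).inv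

theorem imT_ι (hf : IsHom S S' f) {k j : I} (φ : k ⟶ j) :
    imT hf φ ≫ (EtCoh.push (D.map φ)).map (Abelian.image.ι (f k)) =
      Abelian.image.ι (f j) ≫ S'.t φ := by
  haveI := (EtCoh.pullPushAdj (D.map φ)).rightAdjoint_preservesLimits.{0, 0}
  rw [imT, Category.assoc]
  exact (congrArg (_ ≫ ·) (PreservesKernel.iso_inv_ι _ _)).trans (kernel.lift_ι _ _ _)

instance (j : I) : Mono (Abelian.image.ι (f j)) := inferInstanceAs (Mono (kernel.ι _))

/-- The image of a morphism of systems. -/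
def imSystem (hf : IsHom S S' f) : System D :=
  subSystem S' (fun j => Abelian.image (f j)) (fun j => Abelian.image.ι (f j))
    (fun φ => imT hf φ) fun φ => imT_ι hf φ

theorem isHom_image_ι (hf : IsHom S S' f) :
    IsHom (imSystem hf) S' fun j => Abelian.image.ι (f j) :=
  fun φ => imT_ι hf φ

theorem isHom_factor (hf : IsHom S S' f) :
    IsHom S (imSystem hf) fun j => Abelian.factorThruImage (f j) := by
  intro k j φ
  have := mono_push_map (D.map φ) (Abelian.image.ι (f k))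
  refine (cancel_mono ((EtCoh.push (D.map φ)).map (Abelian.image.ι (f k)))).1 ?_
  change (_ ≫ _) ≫ _ = (_ ≫ imT hf φ) ≫ _
  rw [Category.assoc, ← Functor.map_comp, Abelian.image.fac, Category.assoc, imT_ι,
    ← Category.assoc, Abelian.image.fac, hf φ]

end Kernel

end Groth.Agent.Lib.Cont50.Sys
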